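import Mathlib.Algebra.BigOperators.Group.Finset.Basic
import Mathlib.Algebra.Order.BigOperators.Group.Finset
import Mathlib.Data.Rat.Cast.Order
import Mathlib.Tactic

/-!
The arithmetic at the end of the order 8 argument for Hall numbers: seven squares, degrees
congruent to the values modulo 8.
-/

set_option autoImplicit false

namespace CfsgLib.HallNumber

variable {ι : Type*}

/-- The possible values and degrees. -/
theorem value_cases {a : ℤ} {f : ℕ} (hsq : a * a ≤ 7) (ha : a ≠ 0) (hmod : (8 : ℤ) ∣ (f : ℤ) - a)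
    (hlt : |a| < (f : ℤ)) :
    (a = 1 ∧ 9 ≤ f) ∨ (a = 2 ∧ 10 ≤ f) ∨ (a = -1 ∧ 7 ≤ f) ∨ (a = -2 ∧ (f = 6 ∨ 14 ≤ f)) := by
  have h1 : a ≤ 2 := by nlinarith
  have h2 : -2 ≤ a := by nlinarith
  obtain ⟨k, hk⟩ := hmod
  rw [abs_lt] at hlt
  interval_cases a <;> omega

theorem cube_le_sq_div {a : ℤ} {f : ℕ} (h : (a = 1 ∧ 9 ≤ f) ∨ (a = -1 ∧ 7 ≤ f)) :
    (a : ℚ) ^ 3 / f ≤ ((a * a : ℤ) : ℚ) / 9 := by
  rcases h with ⟨rfl, h⟩ | ⟨rfl, h⟩ <;> push_cast
  · rw [one_pow]
    exact one_div_le_one_div_of_le (by norm_num) (by exact_mod_cast h)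
  · exact le_trans (div_nonpos_of_nonpos_of_nonneg (by norm_num) (by positivity)) (by norm_num)

/-- The weight of a negative value. -/
def wt (a : ℤ) : ℤ := if a < 0 then a * a else 0

theorem lower {a : ℤ} {f : ℕ}
    (h : (a = 1 ∧ 9 ≤ f) ∨ (a = 2 ∧ 10 ≤ f) ∨ (a = -1 ∧ 7 ≤ f) ∨ (a = -2 ∧ 14 ≤ f)) :
    -(wt a : ℚ) / 7 ≤ (a : ℚ) ^ 3 / f := by
  rcases h with ⟨rfl, h⟩ | ⟨rfl, h⟩ | ⟨rfl, h⟩ | ⟨rfl, h⟩
  · simp only [wt]; norm_num
  · simp only [wt]; norm_num; positivity
  · have hq : (7 : ℚ) ≤ f := by exact_mod_cast h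
    simp only [wt]; norm_num
    rw [neg_div, neg_le_neg_iff, div_le_div_iff₀ (by linarith) (by norm_num)]
    linarith
  · have hq : (14 : ℚ) ≤ f := by exact_mod_cast h
    simp only [wt]; norm_num
    rw [neg_div, neg_le_neg_iff, div_le_div_iff₀ (by linarith) (by norm_num)]
    linarith

theorem sum_bounds [DecidableEq ι] (T : Finset ι) (a : ι → ℤ) (f : ι → ℕ)
    (hsq : ∑ i ∈ T, a i * a i = 7) (ha : ∀ i ∈ T, a i ≠ 0)
    (hmod : ∀ i ∈ T, (8 : ℤ) ∣ (f i : ℤ) - a i) (hlt : ∀ i ∈ T, |a i| < (f i : ℤ))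
    (haf : ∑ i ∈ T, a i * (f i : ℤ) = -1) :
    (1 + ∑ i ∈ T, (a i : ℚ) ^ 3 / f i ≤ 0) ∨
      (1 / 7 < 1 + ∑ i ∈ T, (a i : ℚ) ^ 3 / f i ∧
        1 + ∑ i ∈ T, (a i : ℚ) ^ 3 / f i ≠ 16 / 77) := by
  have hle : ∀ i ∈ T, a i * a i ≤ 7 := fun i hi => hsq ▸
    Finset.single_le_sum (f := fun i => a i * a i) (fun j _ => mul_self_nonneg _) hi
  have hc := fun i hi => value_cases (hle i hi) (ha i hi) (hmod i hi) (hlt i hi)
  by_cases hsix : ∃ j ∈ T, a j = -2 ∧ f j = 6
  · obtain ⟨j, hj, haj, hfj⟩ := hsix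
    left
    have h3 : ∑ i ∈ T.erase j, a i * a i = 3 := by
      have := Finset.add_sum_erase T (fun i => a i * a i) hj
      simp only [haj] at this
      omega
    have hsmall : ∀ i ∈ T.erase j, (a i : ℚ) ^ 3 / f i ≤ ((a i * a i : ℤ) : ℚ) / 9 := fun i hi => by
      have h1 : a i * a i ≤ 3 := h3 ▸
        Finset.single_le_sum (f := fun i => a i * a i) (fun k _ => mul_self_nonneg _) hi
      rcases hc i (Finset.mem_of_mem_erase hi) with h | ⟨h, -⟩ | h | ⟨h, -⟩
      · exact cube_le_sq_div (Or.inl h)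
      · exact absurd h1 (by rw [h]; norm_num)
      · exact cube_le_sq_div (Or.inr h)
      · exact absurd h1 (by rw [h]; norm_num)
    have hs := Finset.sum_le_sum hsmall
    rw [← Finset.sum_div, ← Int.cast_sum, h3] at hs
    rw [← Finset.add_sum_erase T _ hj, haj, hfj]
    norm_num at hs ⊢
    linarith
  · push Not at hsix
    right
    have hc' : ∀ i ∈ T, (a i = 1 ∧ 9 ≤ f i) ∨ (a i = 2 ∧ 10 ≤ f i) ∨ (a i = -1 ∧ 7 ≤ f i) ∨
        (a i = -2 ∧ 14 ≤ f i) := fun i hi => by
      rcases hc i hi with h | h | h | ⟨h, h' | h'⟩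
      · exact Or.inl h
      · exact Or.inr (Or.inl h)
      · exact Or.inr (Or.inr (Or.inl h))
      · exact absurd h' (hsix i hi h)
      · exact Or.inr (Or.inr (Or.inr ⟨h, h'⟩))
    set P := T.filter (fun i => 0 < a i) with hPdef
    have hwP : ∀ i ∈ P, wt (a i) = 0 := fun i hi => if_neg (by
      have := (Finset.mem_filter.1 hi).2; omega)
    have hwN : ∀ i ∈ T, i ∉ P → wt (a i) = a i * a i := fun i hi hiP => if_pos (by
      have h1 := ha i hi
      have h2 : ¬ 0 < a i := fun h => hiP (Finset.mem_filter.2 ⟨hi, h⟩)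
      omega)
    set W := ∑ i ∈ T, wt (a i) with hW
    have hsplit : W + ∑ i ∈ P, a i * a i = 7 := by
      rw [← hsq, hW, hPdef, ← Finset.sum_filter_add_sum_filter_not T (fun i => 0 < a i) (fun i => a i * a i),
        ← Finset.sum_filter_add_sum_filter_not T (fun i => 0 < a i) (fun i => wt (a i)),
        Finset.sum_eq_zero (s := T.filter fun i => 0 < a i) hwP,
        Finset.sum_congr rfl (s₁ := T.filter fun i => ¬ 0 < a i) (fun i hi =>
          hwN i (Finset.mem_filter.1 hi).1 (fun h => (Finset.mem_filter.1 hi).2 (Finset.mem_filter.1 h).2))]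
      ring
    obtain ⟨p, hp⟩ : P.Nonempty := by
      rw [Finset.nonempty_iff_ne_empty]
      intro he
      obtain ⟨i, hi⟩ : T.Nonempty := by
        rw [Finset.nonempty_iff_ne_empty]; intro e; rw [e] at hsq; simp at hsq
      have hneg : ∀ k ∈ T, a k * (f k : ℤ) ≤ -7 := fun k hk => by
        have hnp : ¬ 0 < a k := fun h => by
          have : k ∈ P := Finset.mem_filter.2 ⟨hk, h⟩
          rw [he] at this; simp at this
        rcases hc' k hk with ⟨h, h'⟩ | ⟨h, h'⟩ | ⟨h, h'⟩ | ⟨h, h'⟩ <;> rw [h] at hnp ⊢ <;> omega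
      have := Finset.single_le_sum (f := fun k => -(a k * (f k : ℤ)))
        (fun k hk => by have := hneg k hk; linarith) hi
      rw [Finset.sum_neg_distrib, haf] at this
      have := hneg i hi
      omega
    have hpT : p ∈ T := (Finset.mem_filter.1 hp).1
    have happ : 1 ≤ a p * a p := by
      have := (Finset.mem_filter.1 hp).2; nlinarith
    have hPle : a p * a p ≤ ∑ i ∈ P, a i * a i :=
      Finset.single_le_sum (f := fun i => a i * a i) (fun j _ => mul_self_nonneg _) hp
    have hW6 : W ≤ 6 := by omega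
    have hlow : ∀ i ∈ T, -(wt (a i) : ℚ) / 7 ≤ (a i : ℚ) ^ 3 / f i := fun i hi => lower (hc' i hi)
    have hsumW : ∑ i ∈ T, -(wt (a i) : ℚ) / 7 = -(W : ℚ) / 7 := by
      rw [hW, Int.cast_sum, ← Finset.sum_div, ← Finset.sum_neg_distrib]
    have hpos : -(wt (a p) : ℚ) / 7 < (a p : ℚ) ^ 3 / f p := by
      rw [hwP p hp]
      have h0 : (0 : ℚ) < a p := by exact_mod_cast (Finset.mem_filter.1 hp).2
      have h1 : (0 : ℚ) < f p := by
        have := hlt p hpT
        have := abs_nonneg (a p)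
        exact_mod_cast (by omega : 0 < f p)
      norm_num
      positivity
    have hgt : -(W : ℚ) / 7 < ∑ i ∈ T, (a i : ℚ) ^ 3 / f i := by
      rw [← hsumW]
      exact Finset.sum_lt_sum hlow ⟨p, hpT, hpos⟩
    have hW6' : (W : ℚ) ≤ 6 := by exact_mod_cast hW6
    refine ⟨by linarith, fun he => ?_⟩
    by_cases hW5 : W ≤ 5
    · have : (W : ℚ) ≤ 5 := by exact_mod_cast hW5
      linarith
    have hWeq : W = 6 := by omega
    have hPone : ∀ i ∈ P, i = p := fun i hi => by
      by_contra hne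
      have h2 := Finset.sum_le_sum_of_subset_of_nonneg (f := fun i => a i * a i)
        (s := {i, p}) (t := P) (by simp [Finset.subset_iff, hi, hp]) (fun j _ _ => mul_self_nonneg _)
      rw [Finset.sum_pair hne] at h2
      have : 1 ≤ a i * a i := by
        have := (Finset.mem_filter.1 hi).2; nlinarith
      omega
    by_cases hmin : ∀ i ∈ T, i ≠ p → a i * (f i : ℤ) = -7 * wt (a i)
    · -- all negative values have the least degree
      have hap : a p = 1 := by
        have h1 : a p * a p = 1 := by omega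
        have h2 := (Finset.mem_filter.1 hp).2
        nlinarith
      have hcube : ∀ i ∈ T, i ≠ p → (a i : ℚ) ^ 3 / f i = -(wt (a i) : ℚ) / 7 := fun i hi hne => by
        have hnp : i ∉ P := fun h => hne (hPone i h)
        have e := hmin i hi hne
        rw [hwN i hi hnp] at e
        have e' : (f i : ℤ) = -7 * a i := mul_left_cancel₀ (ha i hi) (by rw [e]; ring)
        have e'' : (f i : ℚ) = -7 * (a i : ℚ) := by exact_mod_cast e'
        have : (a i : ℚ) ≠ 0 := Int.cast_ne_zero.2 (ha i hi)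
        rw [hwN i hi hnp, e'']
        push_cast
        field_simp
      have hfp : (f p : ℤ) = 41 := by
        have e := haf
        rw [← Finset.add_sum_erase T _ hpT, hap,
          Finset.sum_congr rfl (fun i hi => hmin i (Finset.mem_of_mem_erase hi) (Finset.ne_of_mem_erase hi)),
          ← Finset.mul_sum] at e
        have hwp := hwP p hp
        have hW' := Finset.add_sum_erase T (fun i => wt (a i)) hpT
        simp only [hwp, zero_add, ← hW, hWeq] at hW'
        rw [hW'] at e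
        omega
      have hfp' : (f p : ℚ) = 41 := by exact_mod_cast hfp
      rw [← Finset.add_sum_erase T _ hpT,
        Finset.sum_congr rfl (fun i hi => hcube i (Finset.mem_of_mem_erase hi) (Finset.ne_of_mem_erase hi)),
        hap, hfp'] at he
      have hs := Finset.add_sum_erase T (fun i => -(wt (a i) : ℚ) / 7) hpT
      rw [hsumW, hwP p hp, hWeq] at hs
      norm_num at hs he
      linarith
    · push Not at hmin
      obtain ⟨j, hj, hjp, hne⟩ := hmin
      have hjP : j ∉ P := fun h => hjp (hPone j h)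
      have hjlow : -(wt (a j) : ℚ) / 7 + 8 / 105 ≤ (a j : ℚ) ^ 3 / f j := by
        have hn : ¬ 0 < a j := fun h => hjP (Finset.mem_filter.2 ⟨hj, h⟩)
        have hm := hmod j hj
        rcases hc' j hj with ⟨h, h'⟩ | ⟨h, h'⟩ | ⟨h, h'⟩ | ⟨h, h'⟩
        · omega
        · omega
        · rw [h] at hne hm ⊢
          have : 15 ≤ f j := by simp only [wt] at hne; omega
          have hq : (15 : ℚ) ≤ f j := by exact_mod_cast this
          simp only [wt]; norm_num
          rw [neg_div, neg_le_neg_iff, div_le_div_iff₀ (by linarith) (by norm_num)]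
          linarith
        · rw [h] at hne hm ⊢
          have : 22 ≤ f j := by simp only [wt] at hne; omega
          have hq : (22 : ℚ) ≤ f j := by exact_mod_cast this
          simp only [wt]; norm_num
          rw [neg_div, neg_le_neg_iff, div_le_div_iff₀ (by linarith) (by norm_num)]
          linarith
      have h2 := Finset.add_sum_erase T (fun i => -(wt (a i) : ℚ) / 7) hj
      rw [hsumW, hWeq] at h2
      have h3 := Finset.sum_le_sum (fun i hi => hlow i (Finset.mem_of_mem_erase hi) : ∀ i ∈ T.erase j,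
        -(wt (a i) : ℚ) / 7 ≤ (a i : ℚ) ^ 3 / f i)
      have h4 := Finset.add_sum_erase T (fun i => (a i : ℚ) ^ 3 / f i) hj
      norm_num at h2
      linarith

/-- The order 8 count has no solution. -/
theorem no_solution [DecidableEq ι] (T : Finset ι) (a : ι → ℤ) (f : ι → ℕ) (n : ℕ)
    (hsq : ∑ i ∈ T, a i * a i = 7) (ha : ∀ i ∈ T, a i ≠ 0)
    (hmod : ∀ i ∈ T, (8 : ℤ) ∣ (f i : ℤ) - a i) (hlt : ∀ i ∈ T, |a i| < (f i : ℤ))
    (haf : ∑ i ∈ T, a i * (f i : ℤ) = -1)
    (hn8 : n % 8 = 1) (hn3 : 3 ∣ n) (hn9 : ¬ 9 ∣ n)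
    (heq : 7 * (n : ℚ) * (1 + ∑ i ∈ T, (a i : ℚ) ^ 3 / f i) = 48) : False := by
  set Z := 1 + ∑ i ∈ T, (a i : ℚ) ^ 3 / f i with hZ
  have hn0 : (0 : ℚ) < n := by exact_mod_cast (by omega : 0 < n)
  rcases sum_bounds T a f hsq ha hmod hlt haf with h | ⟨h1, h2⟩
  · rw [← hZ] at h
    nlinarith
  · rw [← hZ] at h1 h2
    have h48 : n < 48 := by
      have : (n : ℚ) < 48 := by nlinarith
      exact_mod_cast this
    have h33 : n = 33 := by omega
    rw [h33] at heq
    norm_num at heq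
    exact h2 (by linarith)

end CfsgLib.HallNumber
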