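import Mathlib.NumberTheory.LSeries.PrimesInAP
import Mathlib.Algebra.IsPrimePow
import Cfsg.Agent.Lib.Classical.PSLTwoMaximal

/-!
Numbers which are not Hall numbers: for every such `m` some `PSL₂(l)`, `l` prime, has order divisible
by `m` exactly and no subgroup of order `m`.
-/

set_option autoImplicit false
set_option linter.style.haveILetI false

namespace CfsgLib.HallNumber

open Matrix
open scoped MatrixGroups

/-- The subgroups of `PSL₂(l)`, `l` a prime, of order `m < l`. -/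
theorem card_cases {l m : ℕ} [Fact l.Prime] (hl : m < l) (hm : m ≠ 12 ∧ m ≠ 24 ∧ m ≠ 60)
    (hodd : Odd l) (H : Subgroup (Matrix.ProjectiveSpecialLinearGroup (Fin 2) (ZMod l)))
    (hH : Nat.card H = m) :
    m ∣ (l + 1) / 2 ∨ m ∣ (l - 1) / 2 ∨ m ∣ l * ((l - 1) / 2) ∨
      ∃ n, m = 2 * n ∧ (n ∣ (l + 1) / 2 ∨ n ∣ (l - 1) / 2) := by
  have hl2 := (Fact.out : l.Prime).two_le
  have hc : Fintype.card (ZMod l) = l := ZMod.card l
  obtain ⟨j, hj⟩ := hodd
  have hg : Nat.gcd 2 (l - 1) = 2 := Nat.gcd_eq_left ⟨j, by omega⟩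
  cases Geom.Moebius.dickson H with
  | cyclic k hk hcy hcard =>
    rw [Geom.Moebius.TorusDvd, hc, hg, ← hcard, hH] at hk
    rcases hk with h | h
    · exact Or.inl h
    · exact Or.inr (Or.inl h)
  | borel P h =>
    refine Or.inr (Or.inr (Or.inl ?_))
    have hle : H ≤ CfsgLib.Classical.pointStab P := fun x hx => h x hx
    have h1 := Subgroup.card_dvd_of_le hle
    have h2 := (CfsgLib.Classical.pointStab P).index_mul_card
    rw [CfsgLib.Classical.index_pointStab, hc] at h2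
    have h3 := CfsgLib.Classical.card_psl_two_ge (F := ZMod l)
    rw [hc, hg, ← h2, show l ^ 2 - 1 = (l + 1) * (l - 1) from by rw [← Nat.sq_sub_sq, one_pow]] at h3
    rw [hH] at h1
    have h4 : l * ((l - 1) / 2) = Nat.card (CfsgLib.Classical.pointStab P) := by
      have h5 : l * (l - 1) = 2 * Nat.card (CfsgLib.Classical.pointStab P) :=
        Nat.eq_of_mul_eq_mul_left (Nat.succ_pos l) (by linarith)
      rw [← Nat.mul_div_assoc _ ⟨j, by omega⟩, h5]
      omega
    rw [h4]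
    exact h1
  | dihedral n hn hk hcy hcard =>
    rw [Geom.Moebius.TorusDvd, hc, hg] at hk
    exact Or.inr (Or.inr (Or.inr ⟨n, hH ▸ hcard, hk⟩))
  | tetrahedral h hcard => omega
  | octahedral h hcard => omega
  | icosahedral h hcard => omega
  | subfieldPGL K u hu hK h hcard =>
    exfalso
    obtain ⟨e, he1, he⟩ := Geom.Moebius.subfield_card_pow K hK
    have hle : l ≤ (u + 1) * (u * (u - 1)) := by
      rw [hc] at he
      rcases Nat.lt_or_ge 1 e with h1 | h1
      · exact absurd (he ▸ (Fact.out : l.Prime)) (Nat.Prime.not_prime_pow h1)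
      · obtain rfl : e = 1 := by omega
        rw [pow_one] at he
        subst he
        exact le_trans (Nat.le_mul_of_pos_right u (by omega : 0 < u - 1))
          (Nat.le_mul_of_pos_left _ (by omega))
    omega
  | subfieldPSL K u hu hK h hcard =>
    exfalso
    obtain ⟨e, he1, he⟩ := Geom.Moebius.subfield_card_pow K hK
    rw [hc] at he
    rcases Nat.lt_or_ge 1 e with h1 | h1
    · exact absurd (he ▸ (Fact.out : l.Prime)) (Nat.Prime.not_prime_pow h1)
    · obtain rfl : e = 1 := by omega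
      rw [pow_one] at he
      subst he
      have h2 : 2 * u ≤ (u + 1) * (u * (u - 1)) :=
        Nat.mul_le_mul (by omega) (Nat.le_mul_of_pos_right u (by omega))
      omega

/-- A prime `l > N` with two prescribed residues. -/
theorem exists_prime_two (N a b x y : ℕ) (ha : a ≠ 0) (hb : b ≠ 0) (hab : a.Coprime b)
    (hx : x.Coprime a) (hy : y.Coprime b) :
    ∃ l > N, l.Prime ∧ l ≡ x [MOD a] ∧ l ≡ y [MOD b] := by
  obtain ⟨z, hz1, hz2⟩ := Nat.chineseRemainder hab x y
  have hz : z.Coprime (a * b) := by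
    refine Nat.Coprime.mul_right ?_ ?_
    · rw [Nat.Coprime, hz1.gcd_eq]; exact hx
    · rw [Nat.Coprime, hz2.gcd_eq]; exact hy
  obtain ⟨l, hl, hlp, hlz⟩ := Nat.forall_exists_prime_gt_and_modEq N (Nat.mul_ne_zero ha hb) hz
  exact ⟨l, hl, hlp, (hlz.of_mul_right b).trans hz1, (hlz.of_mul_left a).trans hz2⟩

/-- `k` divides a number congruent to `k` modulo `k²` exactly. -/
theorem exact_dvd {n k : ℕ} (hk : 0 < k) (h : n ≡ k [MOD k ^ 2]) :
    k ∣ n ∧ ∀ r : ℕ, r.Prime → r ∣ k → ¬ r ∣ n / k := by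
  have hd : k ∣ n := (h.of_dvd (dvd_pow_self k two_ne_zero)).dvd_iff dvd_rfl |>.2 dvd_rfl
  refine ⟨hd, fun r hr hrk hrn => ?_⟩
  obtain ⟨c, rfl⟩ := hd
  rw [Nat.mul_div_cancel_left _ hk] at hrn
  have h1 : c ≡ 1 [MOD k] := by
    rw [pow_two] at h
    exact Nat.ModEq.mul_left_cancel' hk.ne' (by rw [mul_one]; exact h)
  have h2 := (h1.of_dvd hrk).dvd_iff dvd_rfl |>.1 hrn
  exact hr.ne_one (Nat.dvd_one.1 h2)

/-- The group `PSL₂(l)` for the prescribed residues. -/
theorem exists_psl_no_subgroup {m m1 b : ℕ} (hm : m ≠ 12 ∧ m ≠ 24 ∧ m ≠ 60)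
    (hm1 : 1 < m1) (hm1o : Odd m1) (hb : 1 < b) (hb2 : Odd b ∨ 4 ∣ b) (hco : m1.Coprime b)
    (hmb : m = m1 * b) :
    ∃ (G : Type) (_ : Group G) (_ : Finite G), m ∣ Nat.card G ∧ m.Coprime (Nat.card G / m) ∧
      ∀ H : Subgroup G, Nat.card H ≠ m := by
  have hb' : 0 < b := by omega
  have hc1 : (1 + m1).Coprime (m1 ^ 2) := Nat.Coprime.pow_right _ (Nat.coprime_add_self_left.2 (by simp))
  have hc2 : (b ^ 2 - 1 + b).Coprime (b ^ 2) := by
    refine Nat.Coprime.pow_right _ ?_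
    rw [Nat.coprime_add_self_left]
    refine Nat.Coprime.coprime_dvd_right (dvd_pow_self b two_ne_zero) ?_
    obtain ⟨s, hs⟩ : ∃ s, b ^ 2 = s + 1 := ⟨b ^ 2 - 1, (Nat.sub_add_cancel (Nat.one_le_pow _ _ hb')).symm⟩
    rw [hs, Nat.add_sub_cancel]
    simp
  obtain ⟨l, hlgt, hlp, hl1, hl2⟩ := exists_prime_two m (m1 ^ 2) (b ^ 2) (1 + m1) (b ^ 2 - 1 + b)
    (pow_ne_zero _ (by omega)) (pow_ne_zero _ (by omega)) (hco.pow 2 2) hc1 hc2
  have hm0 : 0 < m := hmb ▸ Nat.mul_pos (by omega) hb'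
  have hl3 : 3 ≤ l := by
    have : 3 ≤ m := hmb ▸ le_trans (by omega : 3 ≤ 2 * 2) (Nat.mul_le_mul hm1 hb)
    omega
  haveI : Fact l.Prime := ⟨hlp⟩
  have hodd : Odd l := hlp.odd_of_ne_two (by omega)
  obtain ⟨j, hj⟩ := hodd
  -- the two exact divisibilities
  obtain ⟨hd1, he1⟩ := exact_dvd (n := l - 1) (k := m1) (by omega) (by
    refine Nat.ModEq.add_right_cancel' 1 ?_
    rw [Nat.sub_add_cancel (by omega), add_comm m1 1]
    exact hl1)
  obtain ⟨hd2, he2⟩ := exact_dvd (n := l + 1) (k := b) hb' (by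
    refine (hl2.add_right 1).trans ?_
    rw [show b ^ 2 - 1 + b + 1 = b ^ 2 + b from by have := Nat.one_le_pow 2 b hb'; omega]
    exact Nat.add_modEq_left)
  have hnot1 : ∀ r : ℕ, r.Prime → r ∣ m1 → ¬ r ∣ l + 1 := fun r hr hr1 h => by
    have h' : r ∣ 2 := by
      have := Nat.dvd_sub h (hr1.trans hd1)
      rwa [show l + 1 - (l - 1) = 2 by omega] at this
    obtain rfl := (Nat.prime_dvd_prime_iff_eq hr Nat.prime_two).1 h'
    obtain ⟨i, hi⟩ := hm1o
    omega
  have hnot2 : ∀ r : ℕ, r.Prime → r ∣ b → r ≠ 2 → ¬ r ∣ l - 1 := fun r hr hr1 hr2 h => by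
    have h' : r ∣ 2 := by
      have := Nat.dvd_sub (hr1.trans hd2) h
      rwa [show l + 1 - (l - 1) = 2 by omega] at this
    exact hr2 ((Nat.prime_dvd_prime_iff_eq hr Nat.prime_two).1 h')
  have hnl : ∀ r : ℕ, r.Prime → r ∣ m → ¬ r ∣ l := fun r hr hrm h => by
    obtain rfl := (Nat.prime_dvd_prime_iff_eq hr hlp).1 h
    exact absurd (Nat.le_of_dvd hm0 hrm) (by omega)
  let G := Matrix.ProjectiveSpecialLinearGroup (Fin 2) (ZMod l)
  -- the order of `G` is `m` times a number prime to `m`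
  have hcard : 2 * Nat.card G = l * ((l - 1) * (l + 1)) := by
    have h3 := CfsgLib.Classical.card_psl_two_ge (F := ZMod l)
    rw [ZMod.card, Nat.gcd_eq_left ⟨j, by omega⟩,
      show l ^ 2 - 1 = (l + 1) * (l - 1) from by rw [← Nat.sq_sub_sq, one_pow]] at h3
    rw [← h3]
    ring
  obtain ⟨c1, hc1'⟩ := hd1
  obtain ⟨c2, hc2'⟩ := hd2
  rw [hc1', Nat.mul_div_cancel_left _ (by omega)] at he1
  rw [hc2', Nat.mul_div_cancel_left _ hb'] at he2
  have heven : 2 ∣ c1 := by
    have h : 2 ∣ m1 * c1 := ⟨j, by omega⟩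
    exact (Nat.Coprime.dvd_of_dvd_mul_left (Nat.coprime_two_left.2 hm1o) h)
  obtain ⟨c1', rfl⟩ := heven
  have hG : Nat.card G = m * (l * c1' * c2) := by
    refine Nat.eq_of_mul_eq_mul_left two_pos ?_
    rw [hcard, hc1', hc2', hmb]
    ring
  refine ⟨G, inferInstance, inferInstance, hG ▸ dvd_mul_right _ _, ?_, fun H hH => ?_⟩
  · rw [hG, Nat.mul_div_cancel_left _ hm0]
    refine Nat.coprime_of_dvd fun r hr hrm hrc => ?_
    rcases (hr.dvd_mul).1 hrc with h | h
    rcases (hr.dvd_mul).1 h with h | h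
    · exact hnl r hr hrm h
    · rcases (hr.dvd_mul).1 (hmb ▸ hrm) with h1 | h1
      · exact he1 r hr h1 (h.trans (Dvd.intro_left 2 rfl))
      · rcases eq_or_ne r 2 with rfl | hr2
        · -- then `4 ∣ b`, so `(l - 1) / 2` is odd
          have h4 : 4 ∣ b := by
            refine hb2.resolve_left fun ho => ?_
            obtain ⟨i, hi⟩ := ho
            omega
          have h5 : 4 ∣ m1 * (2 * c1') := dvd_mul_of_dvd_right (Nat.mul_dvd_mul_left 2 h) _
          have h6 : 4 ∣ b * c2 := dvd_mul_of_dvd_left h4 _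
          omega
        · exact hnot2 r hr h1 hr2 (hc1' ▸ dvd_mul_of_dvd_right (dvd_mul_of_dvd_right h 2) m1)
    · rcases (hr.dvd_mul).1 (hmb ▸ hrm) with h1 | h1
      · exact hnot1 r hr h1 (hc2' ▸ dvd_mul_of_dvd_right h b)
      · exact he2 r hr h1 h
  · obtain ⟨r, hr, hr1⟩ := Nat.exists_prime_and_dvd (by omega : m1 ≠ 1)
    have hnp : ¬ m1 ∣ l + 1 := fun h => hnot1 r hr hr1 (hr1.trans h)
    have hhalf : (l + 1) / 2 ∣ l + 1 := Nat.div_dvd_of_dvd ⟨j + 1, by omega⟩
    -- `b` does not divide `l * ((l - 1) / 2)`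
    have hnb : ¬ b ∣ l * ((l - 1) / 2) := by
      intro h
      have h' : b ∣ (l - 1) / 2 := by
        refine Nat.Coprime.dvd_of_dvd_mul_left ?_ h
        exact ((hlp.coprime_iff_not_dvd).2 fun hd =>
          absurd (Nat.le_of_dvd hb' hd) (by
            have : b ≤ m := hmb ▸ Nat.le_mul_of_pos_left b (by omega)
            omega)).symm
      rcases hb2 with ho | h4
      · obtain ⟨s, hs, hs1⟩ := Nat.exists_prime_and_dvd (by omega : b ≠ 1)
        refine hnot2 s hs hs1 ?_ ((hs1.trans h').trans (Nat.div_dvd_of_dvd ⟨j, by omega⟩))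
        rintro rfl
        obtain ⟨i, hi⟩ := ho
        omega
      · have h5 : 4 ∣ (l - 1) / 2 := h4.trans h'
        have h6 : 4 ∣ l + 1 := hc2' ▸ dvd_mul_of_dvd_left h4 _
        omega
    have hnb' : ¬ b ∣ (l - 1) / 2 := fun h => hnb (dvd_mul_of_dvd_right h _)
    rcases card_cases hlgt hm ⟨j, hj⟩ H hH with h | h | h | ⟨n, hn, h⟩
    · exact hnp (((dvd_mul_right m1 b).trans (hmb ▸ dvd_rfl)).trans (h.trans hhalf))
    · exact hnb' (((dvd_mul_left b m1).trans (hmb ▸ dvd_rfl)).trans h)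
    · exact hnb (((dvd_mul_left b m1).trans (hmb ▸ dvd_rfl)).trans h)
    · have h2 : 2 ∣ b := by
        have : 2 ∣ m1 * b := ⟨n, hmb ▸ hn⟩
        exact Nat.Coprime.dvd_of_dvd_mul_left (Nat.coprime_two_left.2 hm1o) this
      have h4 : 4 ∣ b := hb2.resolve_left fun ho => by obtain ⟨i, hi⟩ := ho; omega
      obtain ⟨b', hb'2⟩ := h2
      have hn' : n = m1 * b' := by
        refine Nat.eq_of_mul_eq_mul_left two_pos ?_
        rw [← hn, hmb, hb'2]
        ring
      rcases h with h | h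
      · exact hnp ((hn' ▸ dvd_mul_right m1 b').trans (h.trans hhalf))
      · -- `b'` is even and `(l - 1) / 2` is odd
        have h5 : b' ∣ (l - 1) / 2 := (hn' ▸ dvd_mul_left b' m1).trans h
        have h7 : 2 ∣ b' := by omega
        have h8 : 2 ∣ (l - 1) / 2 := h7.trans h5
        have h6 : 4 ∣ l + 1 := hc2' ▸ dvd_mul_of_dvd_left h4 _
        omega

/-- **The converse.** -/
theorem exists_no_hall (m : ℕ) (hm : 2 ≤ m)
    (h : ¬ (IsPrimePow m ∨ m % 4 = 2 ∨ m = 12 ∨ m = 24 ∨ m = 60)) :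
    ∃ (G : Type) (_ : Group G) (_ : Finite G), m ∣ Nat.card G ∧ m.Coprime (Nat.card G / m) ∧
      ∀ H : Subgroup G, Nat.card H ≠ m := by
  simp only [not_or] at h
  obtain ⟨hpp, h2, h12, h24, h60⟩ := h
  set p := m.minFac with hp
  have hpp' : p.Prime := Nat.minFac_prime (by omega)
  have hsplit := Nat.ordProj_mul_ordCompl_eq_self m p
  have hv : 0 < m.factorization p := hpp'.factorization_pos_of_dvd (by omega) (Nat.minFac_dvd m)
  have hcompl : 1 < m / p ^ m.factorization p := by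
    by_contra hle
    have hpos : 0 < m / p ^ m.factorization p := Nat.ordCompl_pos p (by omega)
    rw [show m / p ^ m.factorization p = 1 by omega, mul_one] at hsplit
    exact hpp ((isPrimePow_nat_iff _).2 ⟨p, m.factorization p, hpp', hv, hsplit⟩)
  have hproj : 1 < p ^ m.factorization p := Nat.one_lt_pow hv.ne' hpp'.one_lt
  have hco : (p ^ m.factorization p).Coprime (m / p ^ m.factorization p) :=
    (Nat.coprime_ordCompl hpp' (by omega)).pow_left _
  rcases Nat.even_or_odd m with he | ho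
  · -- `4 ∣ m`
    have hp2 : p = 2 := (Nat.minFac_eq_two_iff m).2 he.two_dvd
    have h4 : 4 ∣ m := by obtain ⟨i, hi⟩ := he; omega
    have hv2 : 2 ≤ m.factorization p := by
      rw [← hpp'.pow_dvd_iff_le_factorization (by omega), hp2]
      exact h4
    refine exists_psl_no_subgroup ⟨h12, h24, h60⟩ hcompl ?_ hproj
      (Or.inr ?_) hco.symm (by rw [mul_comm]; exact hsplit.symm)
    · refine Nat.odd_iff.2 (Nat.two_dvd_ne_zero.1 fun hd => ?_)
      exact Nat.not_dvd_ordCompl hpp' (by omega) (hp2.symm ▸ hd)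
    · rw [hp2]
      exact (pow_dvd_pow 2 (hp2 ▸ hv2) : 2 ^ 2 ∣ _)
  · refine exists_psl_no_subgroup ⟨h12, h24, h60⟩ hproj ?_ hcompl (Or.inl ?_) hco hsplit.symm
    · exact Odd.of_dvd_nat ho (Nat.ordProj_dvd m p)
    · exact Odd.of_dvd_nat ho (Nat.ordCompl_dvd m p)

end CfsgLib.HallNumber
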