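import Cfsg.Agent.Lib.HallNumber.EightData
import Cfsg.Agent.Lib.HallNumber.Arith
import Cfsg.Agent.Lib.Invol.PrincipalBlock
import Cfsg.Agent.Lib.Block.KerNormal
import Cfsg.Agent.Lib.BlockA.PrincipalType
import Cfsg.Agent.Lib.BlockB.PModular
import Cfsg.Agent.Lib.BlockB.ClassMul
import Cfsg.Agent.Lib.Char.Diag

/-!
Hall numbers, the order 8 configuration is impossible: the generalized character equal to 8 on the
2-singular elements, and the count of the products of two conjugate involutions.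
-/

set_option autoImplicit false
set_option linter.unusedSectionVars false
set_option maxHeartbeats 1000000

namespace CfsgLib.HallNumber

open Cfsg Subgroup CfsgLib.Invol
open scoped ComplexConjugate

universe u

namespace EightData

variable {G : Type u} [Group G] [Finite G] (D : EightData G)

include D in
theorem delta_gen {P : Subgroup G} (hP : IsPGroup 2 P) :
    IsGeneralizedCharacter P (fun x : P => open Classical in if (x : G) = 1 then (0 : ℂ) else 8) := by
  classical
  have := Fintype.ofFinite P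
  obtain ⟨q, hq⟩ : Nat.card P ∣ 8 := by
    obtain ⟨R, hR⟩ := hP.exists_le_sylow
    rw [← D.h8, ← R.card_eq_multiplicity.trans D.S.card_eq_multiplicity.symm]
    exact Subgroup.card_dvd_of_le hR
  have he : (fun x : P => if (x : G) = 1 then (0 : ℂ) else 8) =
      (fun x : P => (8 : ℂ) - if x = 1 then 8 else 0) := funext fun x => by
    by_cases h : x = 1
    · simp [h]
    · simp [h, (fun e => h (Subtype.ext e) : (x : G) ≠ 1)]
  rw [he]
  refine CfsgLib.Char.isGeneralized_sub ?_ (CfsgLib.Char.isGeneralized_of_int ?_ fun χ hχ => ?_)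
  · have := CfsgLib.Char.isGeneralized_zsmul
      (CfsgLib.Char.isGeneralized_of_isCharacter (CfsgLib.Char.isCharacter_one (G := P))) 8
    convert this using 1
    funext x; simp
  · intro g h
    simp [conj_eq_one_iff]
  · obtain ⟨d, hd⟩ := CfsgLib.Char.char_apply_one_eq_nat (CfsgLib.Char.irr_isCharacter hχ)
    refine ⟨(q : ℤ) * d, ?_⟩
    rw [CfsgLib.Char.classInner_def, Finset.sum_eq_single (1 : P) (fun b _ hb => by simp [hb]) (by simp),
      if_pos rfl, hd, Complex.conj_natCast,
      show (8 : ℂ) = (Nat.card P : ℂ) * (q : ℂ) by exact_mod_cast hq]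
    have h0 : (Nat.card P : ℂ) ≠ 0 := CfsgLib.Char.natCard_ne_zero
    push_cast
    field_simp

open Classical in
/-- The function equal to 8 on the 2-singular elements. -/
noncomputable def R (_D : EightData G) (g : G) : ℂ := if twoPart g = 1 then 0 else 8

theorem R_gen : IsGeneralizedCharacter G D.R := by
  classical
  exact isGeneralized_sectFn (w := fun g : G => if g = 1 then (0 : ℂ) else 8)
    (fun g h => by simp [conj_eq_one_iff]) fun P hP => D.delta_gen hP

theorem R_class : IsClassFunction G D.R := CfsgLib.Char.isGeneralized_isClassFunction D.R_gen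

theorem R_one : D.R 1 = 0 := by
  unfold R; rw [if_pos (twoPart_of_odd (by simp))]

theorem R_inner [Fintype G] [Fintype D.K] {F : G → ℂ} (hF : IsClassFunction G F) :
    classInner D.R F =
      (Nat.card D.K : ℂ)⁻¹ * ∑ v : D.K, conj (F ((D.tH * (v : D.H) : D.H) : G)) := by
  classical
  have := Fintype.ofFinite D.H
  set P : G → ℂ := fun g => D.R g * conj (F g)
  have hP : IsClassFunction G P := fun g h => by simp only [P, D.R_class g h, hF g h]
  rw [CfsgLib.Char.classInner_def,
    ← Finset.sum_filter_of_ne (p := fun g => IsConj D.t (twoPart g)) (fun g _ hne => by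
      refine D.isConj_t (exists_orderOf_twoPart g) fun h => hne ?_
      unfold R; rw [if_pos h, zero_mul]),
    sum_section D.t hP, sum_fiber_coe D.H D.tH le_rfl P]
  have hidx : ((Nat.card D.H : ℂ)) * (D.H.index : ℂ) = (Nat.card G : ℂ) := by
    exact_mod_cast D.H.card_mul_index
  have hK : (Nat.card D.H : ℂ) = 8 * (Nat.card D.K : ℂ) := by exact_mod_cast D.hK
  have h0 : (Nat.card D.K : ℂ) ≠ 0 := CfsgLib.Char.natCard_ne_zero
  have hi0 : (D.H.index : ℂ) ≠ 0 := Nat.cast_ne_zero.2 Subgroup.index_ne_zero_of_finite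
  have e : ∑ x ∈ Finset.univ.filter (fun h : D.H => twoPart h = D.tH), P x =
      ∑ v : D.K, 8 * conj (F ((D.tH * (v : D.H) : D.H) : G)) := by
    refine (Finset.sum_bij (fun (v : D.K) _ => D.tH * (v : D.H)) (fun v _ => ?_)
      (fun v _ w _ h => Subtype.ext (mul_left_cancel h)) (fun x hx => ?_) (fun v _ => ?_)).symm
    · simp only [Finset.mem_filter, Finset.mem_univ, true_and]
      rw [D.twoPart_eq_t_iff, inv_mul_cancel_left]
      exact v.2
    · simp only [Finset.mem_filter, Finset.mem_univ, true_and, D.twoPart_eq_t_iff] at hx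
      exact ⟨⟨_, hx⟩, Finset.mem_univ _, by simp⟩
    · have h1 : twoPart ((D.tH * (v : D.H) : D.H) : G) = D.t := by
        rw [twoPart_coe, (D.twoPart_eq_t_iff _).2 (by rw [inv_mul_cancel_left]; exact v.2)]
      show _ = D.R _ * conj (F _)
      unfold R
      rw [if_neg (by rw [h1]; exact invol_ne_one D.ht)]
  rw [e, ← Finset.mul_sum, ← hidx, hK]
  field_simp

/-! ### The principal block -/

variable {M : Ideal AlgInt} (hM : IsPModular 2 M)

theorem pCore_quot :
    letI := D.K_normal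
    Cfsg.pCore 2 (↥D.H ⧸ D.K) = ⊤ := by
  letI := D.K_normal
  refine top_le_iff.1 (le_sSup ⟨inferInstance, IsPGroup.of_card (n := 3) ?_⟩)
  rw [Subgroup.card_top, D.quot_card]; rfl

include hM in
theorem mem_principal_iff [Fintype D.K] (ξ : IrrCharacter D.H) :
    ξ ∈ principalBlock M D.H ↔
      classInner (fun k : D.K => (ξ : D.H → ℂ) k)
        ((CfsgLib.Block.trivIrr : IrrCharacter D.K) : D.K → ℂ) ≠ 0 := by
  classical
  have := Fintype.ofFinite D.H
  have := CfsgLib.Block.isPrime_of_pmodular hM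
  have := D.K_normal
  obtain ⟨B, hB, hiff, -⟩ := CfsgLib.BlockA.principalType (K := D.K) hM
    (by rw [D.pCore_quot]; exact le_top)
    (CfsgLib.Solvable.pPrimeCore_coprime 2) CfsgLib.Block.trivIrr
    (fun g => Subtype.ext (funext fun n => by
      rw [CfsgLib.Block.conjIrr_apply]; rfl))
  have h1 : (CfsgLib.Block.trivIrr : IrrCharacter D.H) ∈ B := by
    rw [hiff]
    rw [show (fun k : D.K => ((CfsgLib.Block.trivIrr : IrrCharacter D.H) : D.H → ℂ) k) =
      ((CfsgLib.Block.trivIrr : IrrCharacter D.K) : D.K → ℂ) from rfl,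
      CfsgLib.Char.irr_classInner_self (CfsgLib.Block.trivIrr : IrrCharacter D.K).2]
    exact one_ne_zero
  rw [← CfsgLib.Block.isPBlock_eq_of_mem hB CfsgLib.Block.isPBlock_principalBlock h1
    CfsgLib.Block.one_mem_principalBlock, hiff]

include hM in
open Classical in
theorem blockSum_eq [Fintype D.H] [Fintype D.K] :
    CfsgLib.Block.blockSum (principalBlock M D.H) =
      CfsgLib.Block.mkGA (fun h : D.H => if h ∈ D.K then (Nat.card D.K : ℂ)⁻¹ else 0) := by
  have := CfsgLib.Block.isPrime_of_pmodular hM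
  have hKn := D.K_normal
  have hKp : ¬ 2 ∣ Nat.card D.K := fun h => Nat.not_even_iff_odd.2 D.odd_card_K (even_iff_two_dvd.2 h)
  refine CfsgLib.Block.eq_of_omegaC_eq (CfsgLib.Block.blockSum_isClassCoeff _) (fun g h => ?_)
    fun ξ => ?_
  · simp only [CfsgLib.Block.coeff_mkGA]
    exact if_congr ⟨fun hx => by simpa [mul_assoc] using hKn.conj_mem _ hx h⁻¹,
      fun hx => hKn.conj_mem _ hx h⟩ rfl rfl
  have hval : CfsgLib.Block.omegaC (ξ : D.H → ℂ)
      (CfsgLib.Block.mkGA (fun h : D.H => if h ∈ D.K then (Nat.card D.K : ℂ)⁻¹ else 0)) =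
      classInner (fun k : D.K => (ξ : D.H → ℂ) k) ((CfsgLib.Block.trivIrr : IrrCharacter D.K) : D.K → ℂ) /
        (ξ : D.H → ℂ) 1 := by
    rw [CfsgLib.Block.omegaC_eq, CfsgLib.Char.classInner_def]
    congr 1
    rw [Finset.mul_sum]
    simp only [CfsgLib.Block.coeff_mkGA, ite_mul, zero_mul, CfsgLib.Block.trivIrr, map_one, mul_one]
    rw [← Finset.sum_filter]
    refine (Finset.sum_bij (fun (k : D.K) _ => (k : D.H)) (fun k _ => by simp)
      (fun x _ y _ h => Subtype.ext h)
      (fun x hx => ⟨⟨x, (Finset.mem_filter.1 hx).2⟩, Finset.mem_univ _, rfl⟩)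
      (fun k _ => rfl)).symm
  rw [CfsgLib.Block.omegaC_blockSum, hval]
  by_cases hξ : ξ ∈ principalBlock M D.H
  · rw [if_pos hξ]
    have hle := CfsgLib.Block.le_kerIrr_of_mem_principalBlock (N := D.K) hM hKp hξ
    rw [show (fun k : D.K => (ξ : D.H → ℂ) k) = (ξ : D.H → ℂ) 1 •
        ((CfsgLib.Block.trivIrr : IrrCharacter D.K) : D.K → ℂ) from funext fun k => by
        simpa [CfsgLib.Block.trivIrr] using CfsgLib.Block.mem_kerIrr.1 (hle k.2),
      CfsgLib.Char.classInner_smul_left,
      CfsgLib.Char.irr_classInner_self (CfsgLib.Block.trivIrr : IrrCharacter D.K).2, mul_one,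
      div_self (CfsgLib.Char.irr_apply_one_ne_zero ξ.2)]
  · rw [if_neg hξ, not_not.1 fun h => hξ ((D.mem_principal_iff hM ξ).2 h), zero_div]

include hM in
open Classical in
theorem sum_K_eq_zero [Fintype G] [Fintype D.K] {χ : IrrCharacter G}
    (hχ : χ ∉ principalBlock M G) :
    ∑ v : D.K, (χ : G → ℂ) ((D.tH * (v : D.H) : D.H) : G) = 0 := by
  have := CfsgLib.Block.isPrime_of_pmodular hM
  have := Fact.mk Nat.prime_two
  have := Fintype.ofFinite D.H
  have hp : IsPGroup 2 (Subgroup.zpowers D.t) :=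
    IsPGroup.of_card (n := 1) (by rw [Nat.card_zpowers, D.ht]; rfl)
  have htH : D.t ∈ D.H := D.tH.2
  have hCH : Subgroup.centralizer (Subgroup.zpowers D.t : Set G) ≤ D.H :=
    Subgroup.centralizer_le (Set.singleton_subset_iff.2 (Subgroup.mem_zpowers D.t))
  have hHN : D.H ≤ Subgroup.normalizer (Subgroup.zpowers D.t : Set G) := by
    have : D.H = Subgroup.centralizer (Subgroup.zpowers D.t : Set G) := by
      rw [Subgroup.zpowers_eq_closure, Subgroup.centralizer_closure]
    rw [this]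
    exact Subgroup.centralizer_le_normalizer _
  obtain ⟨B, hind⟩ := CfsgLib.Block.exists_isInducedBlock_of_normalizer hM hp
    (Subgroup.zpowers_le.2 htH) hCH hHN (CfsgLib.Block.isPBlock_principalBlock (M := M) (G := D.H))
  have hBp : B = principalBlock M G :=
    CfsgLib.Block.isInducedBlock_unique D.H hind
      ((Cfsg.Agent.S0936.result 2 M hM D.H _ ⟨B, hind⟩).2 rfl)
  have hgp : IsPPart 2 D.t D.t :=
    CfsgLib.Block.isPPart_self ⟨1, by rw [D.ht, pow_one]⟩ Nat.prime_two
  have h0 := CfsgLib.Block.chiExt_inclSub_blockSum_eq_zero hM hind htH hgp le_rfl (χ := χ) (hBp ▸ hχ)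
  rw [D.blockSum_eq hM, CfsgLib.Block.chiExt_eq, ← Finset.sum_filter_of_ne (p := fun x => x ∈ D.H)
    (fun x _ hne => by
      by_contra hx
      exact hne (by rw [CfsgLib.Block.coeff_inclSub_of_not_mem D.H _ hx, zero_mul]))] at h0
  have h1 : ∑ x ∈ Finset.univ.filter (fun x => x ∈ D.H),
      (CfsgLib.Block.inclSub D.H (CfsgLib.Block.mkGA
        (fun h : D.H => if h ∈ D.K then (Nat.card D.K : ℂ)⁻¹ else 0))).coeff x *
          (χ : G → ℂ) (x * D.t) =
      (Nat.card D.K : ℂ)⁻¹ * ∑ v : D.K, (χ : G → ℂ) ((D.tH * (v : D.H) : D.H) : G) := by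
    rw [Finset.mul_sum]
    rw [← Finset.sum_bij (s := (Finset.univ : Finset D.H)) (fun (h : D.H) _ => (h : G))
      (f := fun h : D.H => (if h ∈ D.K then (Nat.card D.K : ℂ)⁻¹ else 0) *
        (χ : G → ℂ) ((D.tH * h : D.H) : G))
      (fun h _ => by simp) (fun x _ y _ h => Subtype.ext h)
      (fun x hx => ⟨⟨x, (Finset.mem_filter.1 hx).2⟩, Finset.mem_univ _, rfl⟩)
      (fun h _ => by
        rw [CfsgLib.Block.coeff_inclSub_of_mem, CfsgLib.Block.coeff_mkGA, (D.tH_central h).eq]
        rfl)]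
    simp only [ite_mul, zero_mul]
    rw [← Finset.sum_filter]
    exact (Finset.sum_bij (fun (k : D.K) _ => (k : D.H)) (fun k _ => by simp)
      (fun x _ y _ h => Subtype.ext h)
      (fun x hx => ⟨⟨x, (Finset.mem_filter.1 hx).2⟩, Finset.mem_univ _, rfl⟩)
      (fun k _ => rfl)).symm
  rw [h1] at h0
  exact (mul_eq_zero.1 h0).resolve_left (inv_ne_zero (Nat.cast_ne_zero.2 Nat.card_pos.ne'))

include hM in
/-- The multiplicity is the value at the involution, or zero. -/
theorem inner_cases [Fintype G] (χ : IrrCharacter G) :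
    classInner D.R (χ : G → ℂ) = 0 ∨ classInner D.R (χ : G → ℂ) = conj ((χ : G → ℂ) D.t) := by
  classical
  have := Fintype.ofFinite D.K
  rw [D.R_inner (CfsgLib.Char.irr_isClassFunction χ.2)]
  by_cases hχ : χ ∈ principalBlock M G
  · right
    rw [Finset.sum_congr rfl (g := fun _ => conj ((χ : G → ℂ) D.t)) (fun v _ => by
      congr 1
      exact principal_const_on_core hM ⟨1, by rw [D.ht, pow_one]⟩
        (Subgroup.mem_map_of_mem _ v.2) hχ), Finset.sum_const, Finset.card_univ, nsmul_eq_mul,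
      ← Nat.card_eq_fintype_card, inv_mul_cancel_left₀ CfsgLib.Char.natCard_ne_zero]
  · left
    rw [← map_sum, D.sum_K_eq_zero hM hχ, map_zero, mul_zero]

/-- In a nonabelian simple group a nontrivial irreducible character is smaller at `g ≠ 1`. -/
theorem norm_lt_degree [Fintype G] [IsSimpleGroup G] (hna : ∀ x : G, (∀ y, x * y = y * x) → x = 1)
    {χ : IrrCharacter G} (hχ : χ ≠ CfsgLib.Block.trivIrr) {g : G} (hg : g ≠ 1) {d : ℕ}
    (hd : (χ : G → ℂ) 1 = d) : ‖(χ : G → ℂ) g‖ < (d : ℝ) := by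
  obtain ⟨n, ρ, hρ, he⟩ := χ.2
  have hn : (d : ℂ) = (Module.finrank ℂ (Fin n → ℂ) : ℂ) := by
    rw [← hd, ← he]; exact ρ.char_one
  have hn' : d = Module.finrank ℂ (Fin n → ℂ) := by exact_mod_cast hn
  refine lt_of_le_of_ne ?_ fun hh => ?_
  · rw [hn', ← he]; exact CfsgLib.Char.norm_char_le ρ g
  rw [hn', ← he] at hh
  obtain ⟨ω, hω, -⟩ := CfsgLib.Char.eq_smul_id_of_norm_char_eq ρ g hh
  have hker : ∀ y : G, g * y * (y * g)⁻¹ ∈ CfsgLib.Block.kerIrr χ := fun y => by
    have hc : ρ (g * y) = ρ (y * g) := by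
      rw [map_mul, map_mul, hω]
      ext v
      simp
    rw [CfsgLib.Block.mem_kerIrr, ← he, ← CfsgLib.Char.mem_ker_iff_char, MonoidHom.mem_ker,
      map_mul ρ, hc, ← map_mul ρ, mul_inv_cancel, map_one]
  rcases (CfsgLib.Block.kerIrr_normal χ).eq_bot_or_eq_top with h | h
  · refine hg (hna g fun y => ?_)
    have := hker y
    rwa [h, mem_bot, mul_inv_eq_one] at this
  · refine hχ (Subtype.ext (funext fun y => ?_))
    have hall : ∀ y, (χ : G → ℂ) y = (χ : G → ℂ) 1 := fun y =>
      CfsgLib.Block.mem_kerIrr.1 (h ▸ mem_top y)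
    have h1 := CfsgLib.Char.irr_classInner_self χ.2
    rw [CfsgLib.Char.classInner_def, Finset.sum_congr rfl (fun y _ => by rw [hall y, hd]),
      Finset.sum_const, Finset.card_univ, nsmul_eq_mul, ← Nat.card_eq_fintype_card,
      Complex.conj_natCast, inv_mul_cancel_left₀ CfsgLib.Char.natCard_ne_zero] at h1
    have : d = 1 := Nat.eq_one_of_mul_eq_one_left (show d * d = 1 by exact_mod_cast h1)
    rw [hall y, hd, this]
    simp [CfsgLib.Block.trivIrr]

/-- The count of the 2-singular products. -/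
theorem sum_R_conj [Fintype G] :
    7 * ∑ u : G, D.R (D.t * (u * D.t * u⁻¹)) = 48 * (Nat.card D.M : ℂ) := by
  classical
  have hR : ∀ u : G, D.R (D.t * (u * D.t * u⁻¹)) =
      (if u ∈ D.M then (8 : ℂ) else 0) - (if u ∈ D.C'.map D.M.subtype then 8 else 0) := fun u => by
    have hmap : u ∈ D.C'.map D.M.subtype ↔ ∃ h : u ∈ D.M, (⟨u, h⟩ : D.M) ∈ D.C' := by
      constructor
      · rintro ⟨v, hv, rfl⟩; exact ⟨v.2, hv⟩
      · rintro ⟨h, hv⟩; exact ⟨_, hv, rfl⟩
    have hR' : D.R (D.t * (u * D.t * u⁻¹)) =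
        if Odd (orderOf (D.t * (u * D.t * u⁻¹))) then (0 : ℂ) else 8 :=
      if_congr (twoPart_eq_one_iff _) rfl rfl
    rw [hR']
    by_cases hu : u ∈ D.M
    · by_cases hc : (⟨u, hu⟩ : D.M) ∈ D.C'
      · rw [if_pos hu, if_pos (hmap.2 ⟨hu, hc⟩), if_pos, sub_self]
        by_contra h
        obtain ⟨h', hn⟩ := (D.even_iff u).1 h
        exact hn hc
      · rw [if_pos hu, if_neg (fun h => hc (hmap.1 h).2), if_neg ((D.even_iff u).2 ⟨hu, hc⟩), sub_zero]
    · rw [if_neg hu, if_neg (fun h => hu (hmap.1 h).1), if_pos, sub_zero]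
      by_contra h
      exact hu ((D.even_iff u).1 h).1
  have hcard : ∀ L : Subgroup G, ∑ u : G, (if u ∈ L then (8 : ℂ) else 0) = 8 * (Nat.card L : ℂ) :=
    fun L => by
      rw [← Finset.sum_filter, Finset.sum_const, nsmul_eq_mul, Nat.card_eq_fintype_card,
        Fintype.card_subtype, mul_comm]
  rw [Finset.sum_congr rfl (fun u _ => hR u), Finset.sum_sub_distrib, hcard, hcard,
    Subgroup.card_map_of_injective D.M.subtype_injective, ← D.card_C']
  push_cast
  ring

include D in
/-- The configuration does not exist in a nonabelian simple group whose order is divisible by 3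
exactly once, if `M` has order prime to 3. -/
theorem absurd_of_three [IsSimpleGroup G] (hna : ∀ x : G, (∀ y, x * y = y * x) → x = 1)
    (h3 : 3 ∣ Nat.card G) (h9 : ¬ 9 ∣ Nat.card G) (hM3 : ¬ 3 ∣ Nat.card D.M) : False := by
  classical
  obtain ⟨M, hM⟩ := CfsgLib.BlockB.exists_isPModular Nat.prime_two
  have := Fintype.ofFinite G
  have := Fintype.ofFinite (IrrCharacter G)
  have := Fintype.ofFinite (D.S : Subgroup G)
  have := Fintype.ofFinite D.K
  have hRg := D.R_gen
  have hRc := D.R_class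
  choose a ha using fun χ : IrrCharacter G => CfsgLib.Char.classInner_isGeneralized_int hRg
    (CfsgLib.Char.isGeneralized_of_isCharacter (CfsgLib.Char.irr_isCharacter χ.2))
  choose f hf using fun χ : IrrCharacter G =>
    CfsgLib.Char.char_apply_one_eq_nat (CfsgLib.Char.irr_isCharacter χ.2)
  have hf0 : ∀ χ, f χ ≠ 0 := fun χ h => CfsgLib.Char.irr_apply_one_ne_zero χ.2 (by simp [hf χ, h])
  have hK0 : (Nat.card D.K : ℂ) ≠ 0 := CfsgLib.Char.natCard_ne_zero
  -- the values
  have hval : ∀ χ, a χ ≠ 0 → (χ : G → ℂ) D.t = a χ := fun χ h => by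
    rcases D.inner_cases hM χ with h' | h' <;> rw [ha] at h'
    · exact absurd (Int.cast_eq_zero.1 h') h
    · simpa using (congrArg conj h').symm
  set one : IrrCharacter G := CfsgLib.Block.trivIrr
  have hone : ∀ g, (one : G → ℂ) g = 1 := fun g => by simp [one, CfsgLib.Block.trivIrr]
  have ha1 : a one = 1 := by
    have h := ha one
    rw [D.R_inner (CfsgLib.Char.irr_isClassFunction one.2)] at h
    simp only [hone, map_one, Finset.sum_const, Finset.card_univ, nsmul_eq_mul, mul_one,
      ← Nat.card_eq_fintype_card, inv_mul_cancel₀ hK0] at h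
    exact_mod_cast h.symm
  have hf1 : f one = 1 := by exact_mod_cast ((hf one).symm.trans (hone 1))
  have hnorm : ∑ χ, a χ * a χ = 8 := by
    have h := CfsgLib.Char.classInner_eq_sum_mul hRc D.R
    rw [D.R_inner hRc] at h
    have e : ∀ v : D.K, D.R ((D.tH * (v : D.H) : D.H) : G) = 8 := fun v => by
      unfold R
      rw [if_neg]
      rw [twoPart_coe, (D.twoPart_eq_t_iff _).2 (by rw [inv_mul_cancel_left]; exact v.2)]
      exact invol_ne_one D.ht
    simp only [e, ha, map_intCast, map_ofNat, Finset.sum_const, Finset.card_univ, nsmul_eq_mul,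
      ← Nat.card_eq_fintype_card, inv_mul_cancel_left₀ hK0] at h
    exact_mod_cast h.symm
  have hzero : ∑ χ, a χ * (f χ : ℤ) = 0 := by
    have h := congrFun (CfsgLib.Char.classFunction_eq_sum hRc) 1
    rw [D.R_one] at h
    simp only [Finset.sum_apply, Pi.smul_apply, smul_eq_mul, ha, hf] at h
    exact_mod_cast h.symm
  have hmod : ∀ χ, a χ ≠ 0 → (8 : ℤ) ∣ (f χ : ℤ) - a χ := fun χ h => by
    have hgen : IsGeneralizedCharacter (D.S : Subgroup G)
        (fun x : (D.S : Subgroup G) => (χ : G → ℂ) x) :=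
      isGeneralized_comp (CfsgLib.Char.isGeneralized_of_isCharacter
        (CfsgLib.Char.irr_isCharacter χ.2)) (D.S : Subgroup G).subtype
    obtain ⟨k, hk⟩ := CfsgLib.Char.classInner_isGeneralized_int hgen
      (CfsgLib.Char.isGeneralized_of_isCharacter (CfsgLib.Char.isCharacter_one (G := (D.S : Subgroup G))))
    have hx : ∀ x ∈ (Finset.univ : Finset (D.S : Subgroup G)).erase 1,
        (χ : G → ℂ) x = (a χ : ℂ) := fun x hx => by
      obtain ⟨n, -, hn⟩ := D.hfus _ x.2 fun e => Finset.ne_of_mem_erase hx (Subtype.ext e)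
      rw [← hn, CfsgLib.Char.irr_isClassFunction χ.2, hval χ h]
    simp only [CfsgLib.Char.classInner_def, map_one, mul_one] at hk
    rw [← Finset.add_sum_erase _ _ (Finset.mem_univ 1), Finset.sum_congr rfl hx, Finset.sum_const,
      Finset.card_erase_of_mem (Finset.mem_univ _), Finset.card_univ, ← Nat.card_eq_fintype_card,
      D.h8, nsmul_eq_mul, OneMemClass.coe_one, hf χ] at hk
    refine ⟨k - a χ, ?_⟩
    have : ((f χ : ℤ) : ℂ) - (a χ : ℂ) = 8 * ((k : ℂ) - (a χ : ℂ)) := by
      push_cast at hk ⊢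
      linear_combination 8 * hk
    exact_mod_cast this
  -- the count
  have hn0 : (Nat.card D.M : ℂ) * (D.M.index : ℂ) = (Nat.card G : ℂ) := by
    exact_mod_cast D.M.card_mul_index
  have hM0 : (Nat.card D.M : ℂ) ≠ 0 := CfsgLib.Char.natCard_ne_zero
  have hcount : 7 * (D.M.index : ℂ) * ∑ χ, ((a χ : ℂ) ^ 3 / (f χ : ℂ)) = 48 := by
    have h := CfsgLib.BlockB.sum_classFun_mul_conj hRc D.t D.t
    have e : ∀ χ : IrrCharacter G, classInner D.R (χ : G → ℂ) * (χ : G → ℂ) D.t * (χ : G → ℂ) D.t /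
        (χ : G → ℂ) 1 = (a χ : ℂ) ^ 3 / (f χ : ℂ) := fun χ => by
      rw [ha, hf]
      by_cases h0 : a χ = 0
      · simp [h0]
      · rw [hval χ h0]; ring
    simp only [e] at h
    have h2 := D.sum_R_conj
    rw [h, ← hn0] at h2
    refine mul_left_cancel₀ hM0 ?_
    linear_combination h2
  -- the arithmetic
  set T := Finset.univ.filter fun χ => a χ ≠ 0 ∧ χ ≠ one
  have hsum : ∀ {β : Type} [AddCommMonoid β] (F : IrrCharacter G → β),
      (∀ χ, a χ = 0 → F χ = 0) → ∑ χ, F χ = F one + ∑ χ ∈ T, F χ := fun {β} _ F hF => by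
    rw [← Finset.add_sum_erase _ F (Finset.mem_univ one)]
    congr 1
    refine (Finset.sum_subset (fun χ hχ => ?_) fun χ hχ hnT => hF χ ?_).symm
    · exact Finset.mem_erase.2 ⟨(Finset.mem_filter.1 hχ).2.2, Finset.mem_univ _⟩
    · by_contra h
      exact hnT (Finset.mem_filter.2 ⟨Finset.mem_univ _, h, Finset.ne_of_mem_erase hχ⟩)
  rw [hsum (fun χ => a χ * a χ) (fun χ h => by simp [h]), ha1] at hnorm
  rw [hsum (fun χ => a χ * (f χ : ℤ)) (fun χ h => by simp [h]), ha1, hf1] at hzero
  rw [hsum (fun χ => (a χ : ℂ) ^ 3 / (f χ : ℂ)) (fun χ h => by simp [h]), ha1, hf1] at hcount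
  have hn3 : 3 ∣ D.M.index := by
    rw [← D.M.card_mul_index] at h3
    exact ((Nat.Prime.dvd_mul Nat.prime_three).1 h3).resolve_left hM3
  refine no_solution T a f D.M.index (by omega) (fun χ hχ => (Finset.mem_filter.1 hχ).2.1)
    (fun χ hχ => hmod χ (Finset.mem_filter.1 hχ).2.1) (fun χ hχ => ?_) ?_ D.index_mod_eight hn3
    (fun h => h9 (h.trans D.M.index_dvd_card)) ?_
  · have h := norm_lt_degree hna (Finset.mem_filter.1 hχ).2.2 (invol_ne_one D.ht) (hf χ)
    rw [hval χ (Finset.mem_filter.1 hχ).2.1, Complex.norm_intCast] at h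
    exact_mod_cast h
  · have : (1 : ℤ) * ((1 : ℕ) : ℤ) = 1 := by norm_num
    linarith
  · have : ((7 * (D.M.index : ℚ) * (1 + ∑ χ ∈ T, (a χ : ℚ) ^ 3 / (f χ : ℚ)) : ℚ) : ℂ) = ((48 : ℚ) : ℂ) := by
      push_cast
      simpa using hcount
    exact_mod_cast this

end EightData

end CfsgLib.HallNumber
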