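import Cfsg.Agent.Lib.Invol.SectionChar
import Cfsg.Agent.Lib.Solvable.PCore
import Cfsg.Agent.Lib.Invol.Basic
import Mathlib.GroupTheory.GroupAction.Quotient

/-!
Hall numbers, the order 8 configuration: an elementary abelian Sylow 2-subgroup of order 8, fused
in its normalizer, 2-nilpotent centralizer of an involution, and a strongly embedded subgroup.
-/

set_option autoImplicit false
set_option linter.unusedSectionVars false
set_option linter.style.haveILetI false

namespace CfsgLib.HallNumber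

open Cfsg Subgroup CfsgLib.Invol

universe u

/-- The configuration. -/
structure EightData (G : Type u) [Group G] [Finite G] where
  S : Sylow 2 G
  t : G
  M : Subgroup G
  O : Subgroup G
  h8 : Nat.card (S : Subgroup G) = 8
  hexp : ∀ x ∈ (S : Subgroup G), x * x = 1
  htS : t ∈ (S : Subgroup G)
  ht : orderOf t = 2
  hfus : ∀ x ∈ (S : Subgroup G), x ≠ 1 →
    ∃ n ∈ normalizer ((S : Subgroup G) : Set G), n * t * n⁻¹ = x
  hK : Nat.card ↥(centralizer ({t} : Set G)) =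
    8 * Nat.card (Cfsg.pPrimeCore 2 ↥(centralizer ({t} : Set G)))
  hOM : O ≤ M
  hOn : ∀ m ∈ M, ∀ o ∈ O, m * o * m⁻¹ ∈ O
  hOodd : Odd (Nat.card O)
  hNS : normalizer ((S : Subgroup G) : Set G) ≤ M
  hcen : ∀ x ∈ M, orderOf x = 2 → centralizer ({x} : Set G) ≤ M
  hOS : ∀ x ∈ M, orderOf x = 2 → ∃ s ∈ (S : Subgroup G), s⁻¹ * x ∈ O

namespace EightData

variable {G : Type u} [Group G] [Finite G] (D : EightData G)

/-- The centralizer of the involution. -/
abbrev H : Subgroup G := centralizer ({D.t} : Set G)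

/-- Its core. -/
abbrev K : Subgroup D.H := Cfsg.pPrimeCore 2 ↥D.H

/-- The involution in its centralizer. -/
abbrev tH : D.H := ⟨D.t, mem_centralizer_singleton_iff.2 rfl⟩

theorem K_normal : (D.K).Normal := CfsgLib.Solvable.pPrimeCore_normal 2 _

theorem odd_card_K : Odd (Nat.card D.K) := by
  have := CfsgLib.Solvable.pPrimeCore_coprime (G := ↥D.H) 2
  rwa [Nat.coprime_two_right] at this

theorem quot_card : Nat.card (↥D.H ⧸ D.K) = 8 := by
  have h := D.K.card_eq_card_quotient_mul_card_subgroup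
  have h0 : 0 < Nat.card D.K := Nat.card_pos
  rw [D.hK] at h
  exact (Nat.eq_of_mul_eq_mul_right h0 h).symm

theorem tH_central (x : D.H) : Commute D.tH x :=
  Subtype.ext (mem_centralizer_singleton_iff.1 x.2).symm

theorem tH_two : ∃ k : ℕ, orderOf D.tH = 2 ^ k :=
  ⟨1, by rw [← Subgroup.orderOf_coe, pow_one]; exact D.ht⟩

theorem odd_of_mem_K {x : D.H} (hx : x ∈ D.K) : Odd (orderOf x) :=
  D.odd_card_K.of_dvd_nat (Subgroup.orderOf_dvd_natCard D.K hx)

theorem mem_K_of_odd {x : D.H} (hx : Odd (orderOf x)) : x ∈ D.K := by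
  have := D.K_normal
  rw [← QuotientGroup.eq_one_iff, ← orderOf_eq_one_iff]
  have h1 : orderOf (x : ↥D.H ⧸ D.K) ∣ 8 := D.quot_card ▸ orderOf_dvd_natCard _
  have h2 : orderOf (x : ↥D.H ⧸ D.K) ∣ orderOf x := orderOf_map_dvd (QuotientGroup.mk' D.K) x
  exact Nat.eq_one_of_dvd_coprimes
    (Nat.Coprime.pow_left 3 (Nat.coprime_two_left.2 hx) : (2 ^ 3).Coprime (orderOf x)) h1 h2

/-- The elements of `H` with 2-part `t` are the coset `t K`. -/
theorem twoPart_eq_t_iff (x : D.H) : twoPart x = D.tH ↔ D.tH⁻¹ * x ∈ D.K := by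
  constructor
  · intro h
    have := odd_orderOf_twoPart_inv_mul x
    rw [h] at this
    exact D.mem_K_of_odd this
  · intro h
    have := twoPart_mul (D.tH_central (D.tH⁻¹ * x)) D.tH_two (D.odd_of_mem_K h)
    rwa [mul_inv_cancel_left] at this

include D in
theorem exists_conj_S {x : G} (hx : ∃ k : ℕ, orderOf x = 2 ^ k) :
    ∃ a : G, a * x * a⁻¹ ∈ (D.S : Subgroup G) := by
  obtain ⟨k, hk⟩ := hx
  obtain ⟨R, hR⟩ := (IsPGroup.of_card (p := 2) (n := k) (G := Subgroup.zpowers x)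
    (by rw [Nat.card_zpowers, hk])).exists_le_sylow
  obtain ⟨a, ha⟩ := MulAction.exists_smul_eq G R D.S
  refine ⟨a, ?_⟩
  rw [← ha, Sylow.coe_subgroup_smul]
  exact Subgroup.smul_mem_pointwise_smul _ (MulAut.conj a) _ (hR (Subgroup.mem_zpowers _))

include D in
theorem isConj_t {x : G} (hx : ∃ k : ℕ, orderOf x = 2 ^ k) (h1 : x ≠ 1) : IsConj D.t x := by
  obtain ⟨a, ha⟩ := D.exists_conj_S hx
  obtain ⟨n, -, hn⟩ := D.hfus _ ha fun e => h1 (conj_eq_one_iff.1 e)
  exact isConj_iff.2 ⟨a⁻¹ * n, by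
    calc a⁻¹ * n * D.t * (a⁻¹ * n)⁻¹ = a⁻¹ * (n * D.t * n⁻¹) * a := by group
      _ = x := by rw [hn]; group⟩

theorem orderOf_eq_two {x : G} (hx : x ∈ (D.S : Subgroup G)) (h1 : x ≠ 1) : orderOf x = 2 :=
  orderOf_eq_prime (by rw [pow_two]; exact D.hexp x hx) h1

theorem S_le_M : (D.S : Subgroup G) ≤ D.M := le_normalizer.trans D.hNS

theorem t_mem_M : D.t ∈ D.M := D.S_le_M D.htS

theorem H_le_M : D.H ≤ D.M := D.hcen _ D.t_mem_M D.ht

/-- The subgroup `M` is transitive on its involutions. -/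
theorem exists_conj_t {x : G} (hx : x ∈ D.M) (h2 : orderOf x = 2) :
    ∃ m ∈ D.M, m * D.t * m⁻¹ = x := by
  obtain ⟨R, hR⟩ := (IsPGroup.of_card (p := 2) (n := 1) (G := Subgroup.zpowers (⟨x, hx⟩ : D.M))
    (by rw [Nat.card_zpowers, Subgroup.orderOf_mk, h2, pow_one])).exists_le_sylow
  obtain ⟨a, ha⟩ := MulAction.exists_smul_eq D.M R (D.S.subtype D.S_le_M)
  have hmem : a * ⟨x, hx⟩ * a⁻¹ ∈ (D.S : Subgroup G).subgroupOf D.M := by
    rw [← D.S.coe_subtype D.S_le_M, ← ha, Sylow.coe_subgroup_smul]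
    exact Subgroup.smul_mem_pointwise_smul _ (MulAut.conj a) _ (hR (Subgroup.mem_zpowers _))
  obtain ⟨n, hn, he⟩ := D.hfus ((a : G) * x * (a : G)⁻¹) hmem
    (fun e => invol_ne_one h2 (conj_eq_one_iff.1 e))
  exact ⟨(a : G)⁻¹ * n, mul_mem (inv_mem a.2) (D.hNS hn), by
    calc (a : G)⁻¹ * n * D.t * ((a : G)⁻¹ * n)⁻¹ = (a : G)⁻¹ * (n * D.t * n⁻¹) * a := by group
      _ = x := by rw [he]; group⟩

/-- Only elements of `M` carry `t` into `M`. -/
theorem mem_M_of_conj_mem {u : G} (h : u * D.t * u⁻¹ ∈ D.M) : u ∈ D.M := by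
  obtain ⟨m, hm, he⟩ := D.exists_conj_t h ((orderOf_conj_eq u D.t).trans D.ht)
  have : m⁻¹ * u ∈ D.H := by
    rw [mem_centralizer_singleton_iff]
    calc m⁻¹ * u * D.t = m⁻¹ * (u * D.t * u⁻¹) * u := by group
      _ = m⁻¹ * (m * D.t * m⁻¹) * u := by rw [he]
      _ = D.t * (m⁻¹ * u) := by group
  simpa using mul_mem hm (D.H_le_M this)

/-- An element `u` outside `M` gives a product of odd order. -/
theorem mem_M_of_even {u : G} (h : ¬ Odd (orderOf (D.t * (u * D.t * u⁻¹)))) : u ∈ D.M := by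
  set s := u * D.t * u⁻¹ with hs
  set w := D.t * s with hw
  obtain ⟨k, hk⟩ : 2 ∣ orderOf w := even_iff_two_dvd.1 (Nat.not_odd_iff_even.1 h)
  have hk0 : k ≠ 0 := fun e => (orderOf_pos w).ne' (by rw [hk, e, mul_zero])
  have hz : orderOf (w ^ k) = 2 := by
    rw [orderOf_pow' w hk0, hk, Nat.gcd_eq_right (dvd_mul_left k 2),
      Nat.mul_div_cancel _ (Nat.pos_of_ne_zero hk0)]
  have htt : D.t * D.t = 1 := invol_mul_self D.ht
  have hti : D.t⁻¹ = D.t := inv_eq_of_mul_eq_one_left htt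
  have hss : s * s = 1 := invol_mul_self ((orderOf_conj_eq u D.t).trans D.ht)
  have hinv : D.t * w * D.t⁻¹ = w⁻¹ := by
    rw [hw, mul_inv_rev, hti, inv_eq_of_mul_eq_one_left hss, ← mul_assoc, htt, one_mul]
  have htz : D.t * w ^ k * D.t⁻¹ = w ^ k := by
    rw [← conj_pow, hinv, inv_pow]
    exact inv_eq_of_mul_eq_one_left (invol_mul_self hz)
  have hzH : w ^ k ∈ D.H := mem_centralizer_singleton_iff.2 (mul_inv_eq_iff_eq_mul.1 htz).symm
  refine D.mem_M_of_conj_mem (D.hcen _ (D.H_le_M hzH) hz ?_)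
  rw [mem_centralizer_singleton_iff, ← hs, show s = D.t⁻¹ * w by rw [hw, inv_mul_cancel_left]]
  have h1 : Commute (D.t⁻¹) (w ^ k) :=
    (show Commute D.t (w ^ k) from mul_inv_eq_iff_eq_mul.1 htz).inv_left
  exact (h1.mul_left ((Commute.refl w).pow_right k)).eq

/-! ### The quotient of `M` -/

theorem O_normal : (D.O.subgroupOf D.M).Normal :=
  ⟨fun x hx g => mem_subgroupOf.2 (D.hOn g g.2 x (mem_subgroupOf.1 hx))⟩

theorem mem_O_one {x : G} (hx : x ∈ (D.S : Subgroup G)) (hxO : x ∈ D.O) : x = 1 := by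
  by_contra h
  have h2 : 2 ∣ Nat.card D.O := D.orderOf_eq_two hx h ▸ Subgroup.orderOf_dvd_natCard D.O hxO
  exact Nat.not_even_iff_odd.2 D.hOodd (even_iff_two_dvd.2 h2)

/-- The elements of `M` centralizing `t` modulo `O`. -/
noncomputable def C' : Subgroup D.M :=
  letI := D.O_normal
  (centralizer ({QuotientGroup.mk' (D.O.subgroupOf D.M) ⟨D.t, D.t_mem_M⟩} :
    Set (↥D.M ⧸ D.O.subgroupOf D.M))).comap (QuotientGroup.mk' (D.O.subgroupOf D.M))

theorem index_C' : D.C'.index = 7 := by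
  classical
  letI := D.O_normal
  set q := QuotientGroup.mk' (D.O.subgroupOf D.M) with hq
  rw [C', Subgroup.index_comap_of_surjective _ (QuotientGroup.mk'_surjective _),
    ← (haveI := Fintype.ofFinite (↥D.M ⧸ D.O.subgroupOf D.M);
      CfsgLib.Char.natCard_carrier_eq_index (G := ↥D.M ⧸ D.O.subgroupOf D.M) _)]
  let φ : {x : (D.S : Subgroup G) // x ≠ 1} → ↥D.M ⧸ D.O.subgroupOf D.M :=
    fun x => q ⟨x.1.1, D.S_le_M x.1.2⟩
  have hinj : Function.Injective φ := by
    intro x y h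
    have h' := (QuotientGroup.eq (s := D.O.subgroupOf D.M)).1 h
    rw [mem_subgroupOf] at h'
    exact Subtype.ext (Subtype.ext (inv_mul_eq_one.1
      (D.mem_O_one (mul_mem (inv_mem x.1.2) y.1.2) h')))
  have hrange : Set.range φ = (ConjClasses.mk (q ⟨D.t, D.t_mem_M⟩)).carrier := by
    ext w
    rw [ConjClasses.mem_carrier_iff_mk_eq, ConjClasses.mk_eq_mk_iff_isConj]
    constructor
    · rintro ⟨x, rfl⟩
      obtain ⟨n, hn, he⟩ := D.hfus _ x.1.2 fun e => x.2 (Subtype.ext e)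
      refine (isConj_iff.2 ⟨q ⟨n, D.hNS hn⟩, ?_⟩).symm
      rw [← map_inv, ← map_mul, ← map_mul]
      exact congrArg q (Subtype.ext he)
    · intro hw
      obtain ⟨c, hc⟩ := isConj_iff.1 hw.symm
      obtain ⟨m, rfl⟩ := QuotientGroup.mk'_surjective _ c
      have hx2 : orderOf ((m : G) * D.t * (m : G)⁻¹) = 2 := (orderOf_conj_eq _ _).trans D.ht
      have hxM : (m : G) * D.t * (m : G)⁻¹ ∈ D.M := mul_mem (mul_mem m.2 D.t_mem_M) (inv_mem m.2)
      obtain ⟨s, hs, hsO⟩ := D.hOS _ hxM hx2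
      have hs1 : s ≠ 1 := fun e => by
        rw [e, inv_one, one_mul] at hsO
        have h2 : 2 ∣ Nat.card D.O := hx2 ▸ Subgroup.orderOf_dvd_natCard D.O hsO
        exact Nat.not_even_iff_odd.2 D.hOodd (even_iff_two_dvd.2 h2)
      refine ⟨⟨⟨s, hs⟩, fun e => hs1 (congrArg Subtype.val e)⟩, ?_⟩
      rw [← hc, hq, ← map_inv, ← map_mul, ← map_mul]
      exact (QuotientGroup.eq (s := D.O.subgroupOf D.M)).2 (mem_subgroupOf.2 hsO)
  rw [← hrange, Nat.card_congr (Equiv.ofInjective φ hinj).symm]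
  have := Fintype.ofFinite (D.S : Subgroup G)
  rw [Nat.card_eq_fintype_card, Fintype.card_subtype_compl, Fintype.card_subtype_eq,
    ← Nat.card_eq_fintype_card, D.h8]

theorem card_C' : 7 * Nat.card D.C' = Nat.card D.M := by
  have := D.C'.card_mul_index
  rw [D.index_C', mul_comm] at this
  exact this

/-- The 2-singular products are exactly those from `M` outside `C'`. -/
theorem even_iff (u : G) :
    ¬ Odd (orderOf (D.t * (u * D.t * u⁻¹))) ↔ ∃ h : u ∈ D.M, (⟨u, h⟩ : D.M) ∉ D.C' := by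
  letI := D.O_normal
  set q := QuotientGroup.mk' (D.O.subgroupOf D.M) with hq
  have htt : q ⟨D.t, D.t_mem_M⟩ * q ⟨D.t, D.t_mem_M⟩ = 1 := by
    rw [← map_mul]
    exact (congrArg q (Subtype.ext (invol_mul_self D.ht) :
      (⟨D.t, D.t_mem_M⟩ * ⟨D.t, D.t_mem_M⟩ : D.M) = 1)).trans (map_one q)
  have key : ∀ v : D.M, v ∈ D.C' ↔
      q (⟨D.t, D.t_mem_M⟩ * (v * ⟨D.t, D.t_mem_M⟩ * v⁻¹)) = 1 := fun v => by
    rw [C', mem_comap, ← hq, mem_centralizer_singleton_iff, map_mul q, map_mul q, map_mul q,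
      map_inv, mul_eq_one_iff_inv_eq, inv_eq_of_mul_eq_one_left htt, eq_mul_inv_iff_mul_eq]
    exact eq_comm
  constructor
  · intro h
    refine ⟨D.mem_M_of_even h, fun hc => h ?_⟩
    rw [key, hq, QuotientGroup.mk'_apply, QuotientGroup.eq_one_iff, mem_subgroupOf] at hc
    exact D.hOodd.of_dvd_nat (Subgroup.orderOf_dvd_natCard D.O hc)
  · rintro ⟨hu, hc⟩ hodd
    set T : D.M := ⟨D.t, D.t_mem_M⟩
    set U : D.M := ⟨u, hu⟩
    obtain ⟨s, hs, hsO⟩ := D.hOS (u * D.t * u⁻¹) (mul_mem (mul_mem hu D.t_mem_M) (inv_mem hu))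
      ((orderOf_conj_eq u D.t).trans D.ht)
    have e1 : q (U * T * U⁻¹) = q ⟨s, D.S_le_M hs⟩ :=
      ((QuotientGroup.eq (s := D.O.subgroupOf D.M)).2 (mem_subgroupOf.2 hsO)).symm
    rw [key, map_mul, e1, ← map_mul] at hc
    have hord : orderOf (D.t * s) = 2 := D.orderOf_eq_two (mul_mem D.htS hs) fun e => hc (by
      rw [show (T * ⟨s, D.S_le_M hs⟩ : D.M) = 1 from Subtype.ext e, map_one])
    have hsq : q (T * ⟨s, D.S_le_M hs⟩) ^ 2 = 1 := by
      rw [← map_pow, show (T * ⟨s, D.S_le_M hs⟩ : D.M) ^ 2 = 1 from Subtype.ext (by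
        rw [SubmonoidClass.coe_pow]
        exact (hord ▸ pow_orderOf_eq_one _ : (D.t * s) ^ 2 = 1)), map_one]
    have h2 := orderOf_eq_prime hsq hc
    have h3 : orderOf (q (T * ⟨s, D.S_le_M hs⟩)) ∣ orderOf (T * (U * T * U⁻¹)) := by
      rw [show q (T * ⟨s, D.S_le_M hs⟩) = q (T * (U * T * U⁻¹)) by rw [map_mul, map_mul, e1]]
      exact orderOf_map_dvd q _
    rw [h2, ← Subgroup.orderOf_coe] at h3
    exact Nat.not_even_iff_odd.2 hodd (even_iff_two_dvd.2 h3)

/-- The index of `M` is one modulo 8. -/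
theorem index_mod_eight : D.M.index % 8 = 1 := by
  classical
  let S' : Subgroup G := (D.S : Subgroup G)
  have := Fintype.ofFinite (MulAction.orbitRel.Quotient S' (G ⧸ D.M))
  have e := Nat.card_congr (MulAction.selfEquivSigmaOrbitsQuotientStabilizer S' (G ⧸ D.M))
  rw [Nat.card_sigma] at e
  set base : G ⧸ D.M := ((1 : G) : G ⧸ D.M)
  have hfix : ∀ x : S', x • base = base := fun x =>
    (QuotientGroup.eq (s := D.M)).2 (by simpa using inv_mem (D.S_le_M x.2))
  have hfree : ∀ c : G ⧸ D.M, c ≠ base → MulAction.stabilizer S' c = ⊥ := by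
    intro c hc
    rw [eq_bot_iff]
    intro x hx
    obtain ⟨g, rfl⟩ := QuotientGroup.mk_surjective c
    by_contra hne
    have hx1 : (x : G) ≠ 1 := fun e => hne (mem_bot.2 (Subtype.ext e))
    have h2 := D.orderOf_eq_two x.2 hx1
    have hxg : g⁻¹ * x * g ∈ D.M := by
      have h := (QuotientGroup.eq (s := D.M)).1 ((MulAction.mem_stabilizer_iff.1 hx))
      have := inv_mem h
      simpa [mul_assoc] using this
    have h2' : orderOf (g⁻¹ * x * g) = 2 := by
      have := orderOf_conj_eq g⁻¹ (x : G)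
      rw [inv_inv] at this
      exact this.trans h2
    obtain ⟨m, hm, he⟩ := D.exists_conj_t hxg h2'
    obtain ⟨m', hm', he'⟩ := D.exists_conj_t (D.S_le_M x.2) h2
    have hgc : g * (m * m'⁻¹) ∈ centralizer ({(x : G)} : Set G) := by
      rw [mem_centralizer_singleton_iff]
      calc g * (m * m'⁻¹) * (x : G) = g * (m * D.t * m'⁻¹) := by rw [← he']; group
        _ = g * ((g⁻¹ * x * g) * (m * m'⁻¹)) := by rw [← he]; group
        _ = (x : G) * (g * (m * m'⁻¹)) := by group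
    have hgM := mul_mem (D.hcen _ (D.S_le_M x.2) h2 hgc) (inv_mem (mul_mem hm (inv_mem hm')))
    rw [mul_inv_cancel_right] at hgM
    exact hc ((QuotientGroup.eq (s := D.M)).2 (by simpa using inv_mem hgM))
  set ω0 : MulAction.orbitRel.Quotient S' (G ⧸ D.M) := Quotient.mk'' base
  have hout : ω0.out = base := by
    have : ω0.out ∈ MulAction.orbit S' base := Quotient.exact (Quotient.out_eq ω0)
    obtain ⟨x, hx⟩ := this
    rw [← hx]; exact hfix x
  have h1 : Nat.card (S' ⧸ MulAction.stabilizer S' ω0.out) = 1 := by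
    rw [hout, show MulAction.stabilizer S' base = ⊤ from eq_top_iff.2 fun x _ => hfix x,
      ← Subgroup.index_eq_card, Subgroup.index_top]
  have hrest : ∀ ω ∈ Finset.univ.erase ω0, Nat.card (S' ⧸ MulAction.stabilizer S' ω.out) = 8 := by
    intro ω hω
    rw [hfree ω.out fun e => Finset.ne_of_mem_erase hω (by
      rw [← Quotient.out_eq ω, e]), ← Subgroup.index_eq_card, Subgroup.index_bot]
    exact D.h8
  rw [← Finset.add_sum_erase _ _ (Finset.mem_univ ω0), h1, Finset.sum_congr rfl hrest,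
    Finset.sum_const, smul_eq_mul, ← Subgroup.index_eq_card] at e
  omega

end EightData

end CfsgLib.HallNumber
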