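import Cfsg.Agent.Lib.HallNumber.Small
import Cfsg.Agent.Lib.Recog.GW.Reduce
import Cfsg.Agent.Lib.Geom.MaxExclude
import Cfsg.Agent.Lib.Geom.Golden
import Mathlib.GroupTheory.SchurZassenhaus
import Mathlib.GroupTheory.SpecificGroups.KleinFour

/-!
Hall numbers: `m = 60`, given the simple groups with dihedral Sylow 2-subgroups.
-/

set_option autoImplicit false
set_option linter.unusedSectionVars false
set_option linter.style.haveILetI false

namespace CfsgLib.HallNumber

open Subgroup
open scoped MatrixGroups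

universe u

variable {G : Type u} [Group G] [Finite G]

/-- `PSL₂` over an odd field whose order is divisible by 5 contains a subgroup of order 60. -/
theorem hasOrd_sixty_psl {F : Type} [Field F] [Fintype F] (hodd : Odd (Fintype.card F))
    (h5 : 5 ∣ Nat.card (Matrix.ProjectiveSpecialLinearGroup (Fin 2) F)) :
    HasOrd 60 (Matrix.ProjectiveSpecialLinearGroup (Fin 2) F) := by
  obtain ⟨φ, hφ⟩ := CfsgLib.Geom.Golden.exists_golden (F := F)
    (CfsgLib.Geom.Moebius.card_psl_two_split (F := F) ▸ h5.mul_left _)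
  obtain ⟨H, ⟨i⟩⟩ := CfsgLib.Geom.Moebius.exists_altFive_psl hodd hφ
  exact ⟨H, by rw [Nat.card_congr i.toEquiv, nat_card_alternatingGroup, Nat.card_fin]; rfl⟩

/-- An order 60 subgroup of a section lifts over a normal subgroup of order prime to 30. -/
theorem hasOrd_lift {O : Subgroup G} [O.Normal] (hO : (Nat.card O).Coprime 60)
    {L : Subgroup (G ⧸ O)} (h : HasOrd 60 L) : HasOrd 60 G := by
  obtain ⟨H, hH⟩ := hasOrd_of_le h
  set X := H.comap (QuotientGroup.mk' O)
  have hOX : O ≤ X := fun y hy => by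
    show QuotientGroup.mk' O y ∈ H
    rw [QuotientGroup.mk'_apply, (QuotientGroup.eq_one_iff y).2 hy]
    exact H.one_mem
  have hcardO : Nat.card (O.subgroupOf X) = Nat.card O :=
    Nat.card_congr (subgroupOfEquivOfLe hOX).toEquiv
  have hidx : (O.subgroupOf X).index = 60 := by
    have h1 := card_mul_index X
    rw [index_comap_of_surjective H (QuotientGroup.mk'_surjective O),
      card_eq_card_quotient_mul_card_subgroup O, ← card_mul_index H, hH] at h1
    have hX : Nat.card X = 60 * Nat.card O :=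
      Nat.eq_of_mul_eq_mul_right (Nat.pos_of_ne_zero index_ne_zero_of_finite) (h1.trans (by ring))
    have h2 := card_mul_index (O.subgroupOf X)
    rw [hcardO, hX, mul_comm 60] at h2
    exact Nat.eq_of_mul_eq_mul_left Nat.card_pos h2
  obtain ⟨K, hK⟩ := exists_left_complement'_of_coprime (N := O.subgroupOf X)
    (by rw [hcardO, hidx]; exact hO)
  exact hasOrd_of_le ⟨K, by rw [← hidx, hK.index_eq_card]⟩

/-- `m = 60`. -/
theorem hasOrd_sixty (hGW : CfsgLib.Recog.GW.SimpleGW.{u} (Nat.card G)) (hd : 60 ∣ Nat.card G)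
    (hc : Nat.Coprime 60 (Nat.card G / 60)) : HasOrd 60 G := by
  have := Fact.mk Nat.prime_two
  have := Fact.mk Nat.prime_three
  have h5p : Nat.Prime 5 := by norm_num
  have := Fact.mk h5p
  obtain ⟨l, hl⟩ := id hd
  have hl' : Nat.Coprime 60 l := by rw [hl, Nat.mul_div_cancel_left l (by norm_num)] at hc; exact hc
  have h8 : ¬ 8 ∣ Nat.card G := fun h => by
    have : 2 ∣ l := by omega
    exact Nat.not_coprime_of_dvd_of_dvd (by norm_num) (by norm_num) this hl'
  have h25 : ¬ 25 ∣ Nat.card G := fun h => by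
    have : 5 ∣ l := by omega
    exact Nat.not_coprime_of_dvd_of_dvd (by norm_num) (by norm_num) this hl'
  let S : Sylow 2 G := default
  have hS : Nat.card (S : Subgroup G) = 4 :=
    sylow_card_eq S (a := 2) (b := 15) ⟨7, rfl⟩ hd hc (by norm_num)
  rcases complement_cases S (hS ▸ by norm_num) with h | ⟨Q, hQ, g, hg, ho, hn⟩
  · exact hasOrd_of_solvable_top (by norm_num) hd hc h
  -- `S` is a four group normalized by an element of order divisible by 3
  have hQ4 : Nat.card Q ∣ 4 := hS ▸ card_dvd_of_le hQ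
  have hQe : Nat.card Q = 4 := by
    rcases Nat.lt_or_ge (Nat.card Q) 3 with h | h
    · exact absurd (mem_centralizer_of_card_le_two (by omega) hg) hn
    · have h4 : Nat.card Q ≤ 4 := Nat.le_of_dvd (by norm_num) hQ4
      interval_cases Nat.card Q <;> omega
  have hQS : Q = (S : Subgroup G) := eq_of_le_of_card_ge hQ (by rw [hQe, hS])
  have hexp : ∀ x ∈ (S : Subgroup G), x * x = 1 := fun x hx => by
    by_contra hne
    exact hn (mem_centralizer_cyclic_four hQe hg ho (hQS.symm ▸ hx) hne)
  have h3g : 3 ∣ orderOf g := by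
    by_contra h3
    rcases action_cases (hQ4.trans (by norm_num)) hg ho h3 with h' | ⟨h', -⟩
    · exact hn h'
    · omega
  have hdih : Nonempty ((S : Subgroup G) ≃* DihedralGroup 2) := by
    have h1 : ∀ x : (S : Subgroup G), x ^ 2 = 1 := fun x => Subtype.ext (by
      rw [SubmonoidClass.coe_pow, pow_two, OneMemClass.coe_one]; exact hexp x x.2)
    have : IsKleinFour (S : Subgroup G) :=
      { card_four := hS
        exponent_two := by
          refine ((Nat.dvd_prime Nat.prime_two).1
            (Monoid.exponent_dvd_of_forall_pow_eq_one h1)).resolve_left fun h => ?_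
          have hsub := Monoid.exp_eq_one_iff.1 h
          have : Nat.card (S : Subgroup G) = 1 := Nat.card_unique
          omega }
    exact IsKleinFour.nonempty_mulEquiv
  set O := Cfsg.oddCore G
  have : O.Normal := CfsgLib.Solvable.pPrimeCore_normal 2 G
  have hOodd : Odd (Nat.card O) := Nat.coprime_two_right.1 (CfsgLib.Solvable.pPrimeCore_coprime 2)
  have hOsol : Group.IsSolvable O := Cfsg.Agent.S0205.result hOodd
  have hsolv : Group.IsSolvable (G ⧸ O) → HasOrd 60 G := fun h =>
    hasOrd_of_solvable_top (by norm_num) hd hc (isSolvable_ext O hOsol h)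
  rcases CfsgLib.Recog.GW.quotient_shape hGW S 2 le_rfl hdih with h | ⟨⟨e⟩⟩ | ⟨⟨e⟩⟩ | ⟨L, hLn, hLs, -, hM, -⟩
  · have := h.isNilpotent
    exact hsolv inferInstance
  · exact hsolv (CfsgLib.StructC.AltEight.solvable_of_dvd (a := 3) (b := 1) (by
      rw [Nat.card_congr e.toEquiv, nat_card_alternatingGroup, Nat.card_fin]; decide))
  · exact hsolv (CfsgLib.StructC.AltEight.solvable_of_dvd (a := 3) (b := 1) (by
      rw [Nat.card_congr e.toEquiv, Nat.card_perm, Nat.card_fin]; decide))
  have hdQ : Nat.card (G ⧸ O) ∣ Nat.card G := card_quotient_dvd_card O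
  have hdL : Nat.card L ∣ Nat.card G := (card_subgroup_dvd_card L).trans hdQ
  rcases hM with ⟨F, iF, iFt, hodd, hq, ⟨eL⟩⟩ | hA
  swap
  · exfalso
    obtain ⟨eL⟩ := hA
    rw [Nat.card_congr eL.toEquiv, nat_card_alternatingGroup, Nat.card_fin] at hdL
    exact h8 ((by decide : 8 ∣ Nat.factorial 7 / 2).trans hdL)
  have hcardL := CfsgLib.Classical.card_psl_two_ge (F := F)
  rw [← Nat.card_congr eL.toEquiv] at hcardL
  obtain ⟨h12L, h3L⟩ : 4 ∣ Nat.card L ∧ 3 ∣ Nat.card L := by
    have hg2 : Nat.gcd 2 (Fintype.card F - 1) = 2 := by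
      obtain ⟨j, hj⟩ := hodd
      exact Nat.gcd_eq_left ⟨j, by omega⟩
    obtain ⟨j, hj⟩ := hodd
    rw [hg2, hj] at hcardL
    have e1 : (2 * j + 1) ^ 2 - 1 = 4 * (j * (j + 1)) := by
      have : (2 * j + 1) ^ 2 = 4 * (j * (j + 1)) + 1 := by ring
      omega
    rw [e1] at hcardL
    obtain ⟨i, hi⟩ := Nat.even_mul_succ_self j
    have hL : Nat.card L = 4 * ((2 * j + 1) * i) := by
      rw [hi] at hcardL
      ring_nf at hcardL ⊢
      omega
    refine ⟨Dvd.intro _ hL.symm, ?_⟩
    rw [hL]
    refine Dvd.dvd.mul_left ?_ 4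
    rcases (show j % 3 = 0 ∨ j % 3 = 1 ∨ j % 3 = 2 by omega) with h | h | h
    · refine Dvd.dvd.mul_left ?_ _
      have : 3 ∣ j * (j + 1) := Dvd.dvd.mul_right (by omega) _
      omega
    · exact Dvd.dvd.mul_right (by omega) _
    · refine Dvd.dvd.mul_left ?_ _
      have : 3 ∣ j * (j + 1) := Dvd.dvd.mul_left (by omega) _
      omega
  have hcardG := card_eq_card_quotient_mul_card_subgroup O
  have h9 : ¬ 9 ∣ Nat.card G := fun h => by
    have : 3 ∣ l := by omega
    exact Nat.not_coprime_of_dvd_of_dvd (by norm_num) (by norm_num) this hl'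
  have hO3 : ¬ 3 ∣ Nat.card O := fun h => h9 (by
    rw [hcardG]
    exact Nat.mul_dvd_mul (h3L.trans (card_subgroup_dvd_card L)) h)
  by_cases h5L : 5 ∣ Nat.card L
  · have hO5 : ¬ 5 ∣ Nat.card O := fun h => h25 (by
      rw [hcardG]
      exact Nat.mul_dvd_mul (h5L.trans (card_subgroup_dvd_card L)) h)
    refine hasOrd_lift (O := O) ?_ (L := L) ?_
    · exact ((Nat.coprime_two_right.2 hOodd).pow_right 2).mul_right
        (((Nat.prime_three.coprime_iff_not_dvd).2 hO3).symm.mul_right
          ((h5p.coprime_iff_not_dvd).2 hO5).symm)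
    · have hPdvd : 5 ∣ Nat.card (Matrix.ProjectiveSpecialLinearGroup (Fin 2) F) :=
        Nat.card_congr eL.toEquiv ▸ h5L
      obtain ⟨H, hH⟩ := hasOrd_sixty_psl hodd hPdvd
      exact ⟨H.map eL.symm.toMonoidHom, by
        rw [card_map_of_injective (MulEquiv.injective _), hH]⟩
  by_cases h5O : 5 ∣ Nat.card O
  · let R : Sylow 5 O := default
    have hfr := Sylow.normalizer_sup_eq_top R
    set R' : Subgroup G := (R : Subgroup O).map O.subtype
    have hR5 : Nat.card R' = 5 := by
      rw [card_map_of_injective O.subtype_injective, R.card_eq_multiplicity]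
      have : (Nat.card O).factorization 5 = 1 := by
        refine le_antisymm ?_ ((Nat.Prime.dvd_iff_one_le_factorization h5p Nat.card_pos.ne').1 h5O)
        by_contra hlt
        exact h25 (((Nat.Prime.pow_dvd_iff_le_factorization h5p Nat.card_pos.ne').2
          (by omega : 2 ≤ _)).trans (card_subgroup_dvd_card O))
      rw [this, pow_one]
    set N := normalizer (R' : Set G)
    have hdvd : Nat.card G ∣ Nat.card O * Nat.card N := by
      have := CfsgLib.Comp.card_sup_dvd_mul (H := O) (K := N)
        (by rw [normalizer_eq_top_iff.2 inferInstance]; exact le_top)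
      rwa [sup_comm, hfr, card_top] at this
    have h12 : 12 ∣ Nat.card N := by
      refine Nat.Coprime.dvd_of_dvd_mul_left ?_ (((by norm_num : 12 ∣ 60).trans hd).trans hdvd)
      exact (((Nat.coprime_two_right.2 hOodd).pow_right 2).mul_right
        ((Nat.prime_three.coprime_iff_not_dvd).2 hO3).symm).symm
    have hc12 : Nat.Coprime 12 (Nat.card N / 12) := by
      obtain ⟨k, hk⟩ := h12
      rw [hk, Nat.mul_div_cancel_left k (by norm_num)]
      have h1 : k ∣ 5 * l := by
        have h2 := hk ▸ card_subgroup_dvd_card N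
        rw [hl, show 60 * l = 12 * (5 * l) by ring] at h2
        exact Nat.dvd_of_mul_dvd_mul_left (by norm_num) h2
      exact (Nat.Coprime.mul_right (by norm_num) (hl'.coprime_dvd_left (by norm_num))).coprime_dvd_right h1
    obtain ⟨P, hP⟩ := hasOrd_twelve h12 hc12
    refine ⟨R' ⊔ P.map N.subtype, Nat.dvd_antisymm ?_ ?_⟩
    · have := CfsgLib.Comp.card_sup_dvd_mul (H := R') (K := P.map N.subtype) (map_subtype_le P)
      rwa [card_map_of_injective N.subtype_injective, hP, hR5] at this
    · refine (Nat.Coprime.mul_dvd_of_dvd_of_dvd (by norm_num) ?_ ?_ : 5 * 12 ∣ _)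
      · exact hR5 ▸ card_dvd_of_le le_sup_left
      · have := card_dvd_of_le (le_sup_right : P.map N.subtype ≤ R' ⊔ P.map N.subtype)
        rwa [card_map_of_injective N.subtype_injective, hP] at this
  -- 5 divides neither the socle nor the core: the normalizer of `S`
  set X := L.comap (QuotientGroup.mk' O)
  have hXcard : Nat.card X = Nat.card L * Nat.card O := by
    have h1 := card_mul_index X
    rw [index_comap_of_surjective L (QuotientGroup.mk'_surjective O), hcardG, ← card_mul_index L] at h1
    exact Nat.eq_of_mul_eq_mul_right (Nat.pos_of_ne_zero index_ne_zero_of_finite) (h1.trans (by ring))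
  have hSX : (S : Subgroup G) ≤ X := by
    let T : Sylow 2 X := default
    have hT : 4 ∣ Nat.card (T : Subgroup X) := by
      have := T.pow_dvd_card_of_pow_dvd_card (n := 2) (h12L.trans (Dvd.intro _ hXcard.symm))
      exact this
    obtain ⟨U, hU⟩ := (T.2.map X.subtype).exists_le_sylow
    have hUS : Nat.card (U : Subgroup G) = 4 :=
      sylow_card_eq U (a := 2) (b := 15) ⟨7, rfl⟩ hd hc (by norm_num)
    have hUX : (U : Subgroup G) ≤ X := by
      have he : (T : Subgroup X).map X.subtype = (U : Subgroup G) := eq_of_le_of_card_ge hU (by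
        rw [hUS, card_map_of_injective X.subtype_injective]
        exact Nat.le_of_dvd Nat.card_pos hT)
      exact he ▸ map_subtype_le _
    obtain ⟨a, ha⟩ := MulAction.exists_smul_eq G U S
    have hXn : X.Normal := hLn.comap _
    rw [← ha, Sylow.coe_subgroup_smul]
    intro y hy
    obtain ⟨z, hz, rfl⟩ := hy
    exact hXn.conj_mem z (hUX hz) a
  have hXn : X.Normal := hLn.comap _
  have hfr := Sylow.normalizer_sup_eq_top' S hSX
  set N := normalizer ((S : Subgroup G) : Set G)
  have hdvd : Nat.card G ∣ Nat.card X * Nat.card N := by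
    have := CfsgLib.Comp.card_sup_dvd_mul (H := X) (K := N)
      (by rw [normalizer_eq_top_iff.2 hXn]; exact le_top)
    rwa [sup_comm, show N ⊔ X = ⊤ from hfr, card_top] at this
  have hX5 : ¬ 5 ∣ Nat.card X := by
    rw [hXcard]; exact fun h => ((Nat.Prime.dvd_mul h5p).1 h).elim h5L h5O
  have h5N : 5 ∣ Nat.card N :=
    ((Nat.Prime.dvd_mul h5p).1 (((by norm_num : 5 ∣ 60).trans hd).trans hdvd)).resolve_left hX5
  rw [hQS] at hg
  have h3N : 3 ∣ Nat.card N := h3g.trans (Subgroup.orderOf_dvd_natCard N hg)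
  have h4N : 4 ∣ Nat.card N := hS ▸ card_dvd_of_le le_normalizer
  refine hasOrd_of_solvable (by norm_num) hd hc (X := N) ?_
    (Nat.Coprime.mul_dvd_of_dvd_of_dvd (by norm_num)
      (Nat.Coprime.mul_dvd_of_dvd_of_dvd (by norm_num) h4N h3N) h5N : 4 * 3 * 5 ∣ _)
  let T : Sylow 2 N := S.subtype le_normalizer
  have hTn : (T : Subgroup N).Normal := normal_in_normalizer
  refine isSolvable_ext (T : Subgroup N) ?_ (Cfsg.Agent.S0205.result ?_)
  · have := T.2.isNilpotent
    infer_instance
  · rw [← index_eq_card, ← Nat.not_even_iff_odd, even_iff_two_dvd]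
    exact T.not_dvd_index

end CfsgLib.HallNumber
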