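import Cfsg.Agent.Lib.HallNumber.Small
import Cfsg.Agent.Lib.HallNumber.Eight
import Cfsg.Agent.Lib.Comp.FunctorTrivial
import Cfsg.Agent.S0217
import Cfsg.Agent.S1279

/-!
Hall numbers: `m = 24`.
-/

set_option autoImplicit false
set_option linter.unusedSectionVars false
set_option linter.style.haveILetI false

namespace CfsgLib.HallNumber

open Subgroup
open scoped Pointwise

universe u

variable {G : Type u} [Group G] [Finite G]

/-- The part of the order condition inherited by subgroups and quotients. -/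
theorem coprime24_of_dvd {N : ℕ} (hd : 24 ∣ Nat.card G) (hc : Nat.Coprime 24 (Nat.card G / 24))
    (hN : N ∣ Nat.card G) (h24 : 24 ∣ N) : Nat.Coprime 24 (N / 24) := by
  obtain ⟨l, hl⟩ := hd
  obtain ⟨k, rfl⟩ := h24
  rw [hl, Nat.mul_div_cancel_left l (by norm_num)] at hc
  rw [Nat.mul_div_cancel_left k (by norm_num)]
  exact hc.coprime_dvd_right (Nat.dvd_of_mul_dvd_mul_left (by norm_num) (hl ▸ hN))

theorem not_nine_dvd (hd : 24 ∣ Nat.card G) (hc : Nat.Coprime 24 (Nat.card G / 24)) :
    ¬ 9 ∣ Nat.card G := by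
  obtain ⟨l, hl⟩ := hd
  rw [hl, Nat.mul_div_cancel_left l (by norm_num)] at hc
  intro h
  have h3 : 3 ∣ l := by omega
  exact Nat.not_coprime_of_dvd_of_dvd (by norm_num) (by norm_num) h3 hc

/-- The centralizer of a central involution in the fused case. -/
theorem centralizer_facts [Fact (Nat.Prime 2)] (hd : 24 ∣ Nat.card G)
    (hc : Nat.Coprime 24 (Nat.card G / 24)) (hno : ¬ HasOrd 24 G) (S : Sylow 2 G)
    (hS : Nat.card (S : Subgroup G) = 8) (hexp : ∀ x ∈ (S : Subgroup G), x * x = 1) {a : G}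
    (ha : a ∈ (S : Subgroup G)) (ha1 : a ≠ 1) :
    ¬ 3 ∣ Nat.card ↥(centralizer ({a} : Set G)) ∧
      Group.IsSolvable ↥(centralizer ({a} : Set G)) ∧
      Nat.card ↥(centralizer ({a} : Set G)) =
        8 * Nat.card (Cfsg.pPrimeCore 2 ↥(centralizer ({a} : Set G))) ∧
      (S : Subgroup G) ≤ centralizer ({a} : Set G) := by
  set H := centralizer ({a} : Set G)
  have hSH : (S : Subgroup G) ≤ H := fun b hb => by
    rw [mem_centralizer_singleton_iff]
    have h := hexp _ (mul_mem hb ha)
    have e1 : b⁻¹ = b := inv_eq_of_mul_eq_one_left (hexp b hb)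
    have e2 : a⁻¹ = a := inv_eq_of_mul_eq_one_left (hexp a ha)
    have e3 : (b * a)⁻¹ = b * a := inv_eq_of_mul_eq_one_left h
    rw [mul_inv_rev, e1, e2] at e3
    exact e3.symm
  let a' : H := ⟨a, hSH ha⟩
  have hcen : ∀ y : H, y * a' * y⁻¹ = a' := fun y => mul_inv_eq_iff_eq_mul.2
    (Subtype.ext (mem_centralizer_singleton_iff.1 y.2))
  have ha'1 : a' ≠ 1 := fun e => ha1 (congrArg Subtype.val e)
  let T : Sylow 2 H := S.subtype hSH
  have hT : Nat.card (T : Subgroup H) = 8 :=
    (Nat.card_congr (subgroupOfEquivOfLe hSH).toEquiv).trans hS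
  have hsecond : ∀ U : Subgroup H, Nat.card U = 8 → ∃ b ∈ U, b ≠ 1 ∧ b ≠ a' := fun U hU => by
    classical
    by_contra h
    push Not at h
    have hf : Function.Injective fun b : U => decide ((b : H) = 1) := by
      intro x y hxy
      simp only [decide_eq_decide] at hxy
      by_cases hx : (x : H) = 1
      · exact Subtype.ext (hx.trans (hxy.1 hx).symm)
      · exact Subtype.ext ((h x x.2 hx).trans (h y y.2 fun e => hx (hxy.2 e)).symm)
    have := Nat.card_le_card_of_injective _ hf
    simp [hU] at this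
  have hmemT : ∀ U : Sylow 2 H, a' ∈ (U : Subgroup H) := fun U => by
    obtain ⟨y, hy⟩ := MulAction.exists_smul_eq H T U
    rw [← hy, Sylow.coe_subgroup_smul, ← hcen y]
    exact Subgroup.smul_mem_pointwise_smul _ (MulAut.conj y) _ (mem_subgroupOf.2 ha)
  have h3 : ¬ 3 ∣ Nat.card H := fun h3 => by
    have h8 : 8 ∣ Nat.card H := hS ▸ card_dvd_of_le hSH
    have h24 : 24 ∣ Nat.card H := by omega
    rcases twentyfour_cases h24 (coprime24_of_dvd hd hc (card_subgroup_dvd_card H) h24) with
      h | ⟨U, hU, -, -, hU'⟩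
    · exact hno (hasOrd_of_le h)
    · obtain ⟨b, hb, hb1, hba⟩ := hsecond _ hU
      obtain ⟨n, -, hn⟩ := hU' a' (hmemT U) ha'1 b hb hb1
      exact hba (hn.symm.trans (hcen n))
  have hloc : ∀ Q : Subgroup H, Q ≤ (T : Subgroup H) → ∀ g ∈ normalizer (Q : Set H),
      Nat.Coprime (orderOf g) 2 → g ∈ centralizer (Q : Set H) := fun Q hQ g hg ho => by
    rcases action_cases ((card_dvd_of_le hQ).trans hT.dvd) hg (Nat.coprime_two_right.1 ho)
      (fun h => h3 (h.trans (orderOf_dvd_natCard g))) with h | ⟨h8, htr⟩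
    · exact h
    · have hQT : Q = (T : Subgroup H) := eq_of_le_of_card_ge hQ (by rw [h8, hT])
      obtain ⟨b, hb, hb1, hba⟩ := hsecond Q h8
      obtain ⟨k, hk⟩ := htr a' (hQT ▸ hmemT T) ha'1 b hb hb1
      exact absurd (hk.symm.trans (hcen _)) hba
  obtain ⟨N, hN, hcomp⟩ := (Cfsg.Agent.S0071.result T).2 hloc
  refine ⟨h3, isSolvable_of_complement T hN hcomp, ?_, hSH⟩
  have hmul := hcomp.card_mul
  rw [hT] at hmul
  have hNodd : (Nat.card N).Coprime 2 := by
    rw [← hcomp.index_eq_card]
    exact (Nat.prime_two.coprime_iff_not_dvd.2 T.not_dvd_index).symm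
  have hle : N ≤ Cfsg.pPrimeCore 2 ↥H := le_sSup ⟨hN, hNodd⟩
  have hcard : Nat.card (Cfsg.pPrimeCore 2 ↥H) ∣ Nat.card N := by
    have hd' := card_subgroup_dvd_card (Cfsg.pPrimeCore 2 ↥H)
    rw [← hmul] at hd'
    exact (Nat.Coprime.pow_right 3 (CfsgLib.Solvable.pPrimeCore_coprime (G := ↥H) 2) :
      Nat.Coprime _ 8).dvd_of_dvd_mul_right hd'
  rw [← Nat.dvd_antisymm (card_dvd_of_le hle) hcard, ← hmul, mul_comm]

/-- The fused case in a simple group with all proper subgroups satisfying the theorem. -/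
theorem fused_case [Fact (Nat.Prime 2)] [IsSimpleGroup G]
    (hna : ∀ x : G, (∀ y, x * y = y * x) → x = 1) (hd : 24 ∣ Nat.card G)
    (hc : Nat.Coprime 24 (Nat.card G / 24)) (hno : ¬ HasOrd 24 G)
    (hprop : ∀ X : Subgroup G, X ≠ ⊤ → ¬ 24 ∣ Nat.card X)
    (S : Sylow 2 G) (hS : Nat.card (S : Subgroup G) = 8) (hexp : ∀ x ∈ (S : Subgroup G), x * x = 1)
    (hN3 : ¬ 3 ∣ Nat.card ↥(normalizer ((S : Subgroup G) : Set G)))
    (hfus : ∀ a ∈ (S : Subgroup G), a ≠ 1 → ∀ b ∈ (S : Subgroup G), b ≠ 1 →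
      ∃ n ∈ normalizer ((S : Subgroup G) : Set G), n * a * n⁻¹ = b) : False := by
  classical
  set N := normalizer ((S : Subgroup G) : Set G)
  have hfacts := fun {a : G} (ha : a ∈ (S : Subgroup G)) (ha1 : a ≠ 1) =>
    centralizer_facts hd hc hno S hS hexp ha ha1
  have hcommS : ∀ a ∈ (S : Subgroup G), ∀ b ∈ (S : Subgroup G), a * b = b * a := fun a ha b hb => by
    by_cases hb1 : b = 1
    · simp [hb1]
    exact mem_centralizer_singleton_iff.1 ((hfacts hb hb1).2.2.2 ha)
  have hel : Cfsg.IsElementaryAbelian 2 (S : Subgroup G) :=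
    ⟨⟨⟨fun x y => Subtype.ext (hcommS x x.2 y y.2)⟩⟩, fun a ha => by rw [pow_two]; exact hexp a ha⟩
  have hfun := Cfsg.Agent.S1279.result 2 (S : Subgroup G) hel (by rw [hS]; norm_num)
    (fun a ha ha1 => (hfacts ha ha1).2.1)
  obtain ⟨⟨hθC, hθp, hθinv, hbal⟩, hθsol⟩ := hfun
  set θ : G → Subgroup G := fun a => Cfsg.centralizerPPrimeCore 2 a
  obtain ⟨hWodd, -⟩ := Cfsg.Agent.S0217.result (p := 2) (S : Subgroup G) hcommS
    (fun a ha => by rw [pow_two]; exact hexp a ha) (by rw [hS]; norm_num) θ hθC hθp hθinv hθsol hbal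
  set W : Subgroup G := ⨆ a : {a : G // a ∈ (S : Subgroup G) ∧ a ≠ 1}, θ a
  have hθW : ∀ a ∈ (S : Subgroup G), a ≠ 1 → θ a ≤ W := fun a ha ha1 =>
    le_iSup (fun b : {a : G // a ∈ (S : Subgroup G) ∧ a ≠ 1} => θ b) ⟨a, ha, ha1⟩
  have hNW : N ≤ normalizer (W : Set G) := by
    have hle : ∀ n ∈ N, W.map (MulAut.conj n).toMonoidHom ≤ W := fun n hn => by
      rw [Subgroup.map_iSup]
      refine iSup_le fun a => ?_
      rw [← CfsgLib.Comp.FunctorTriv.centralizerPPrimeCore_conj]
      exact hθW _ ((mem_normalizer_iff.1 hn _).1 a.2.1) fun e => a.2.2 (conj_eq_one_iff.1 e)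
    intro n hn
    refine mem_normalizer_iff.2 fun w => ⟨fun hw => hle n hn ⟨w, hw, rfl⟩, fun hw => ?_⟩
    have := hle n⁻¹ (inv_mem hn) ⟨_, hw, rfl⟩
    simpa [mul_assoc] using this
  have hWn : N ≤ normalizer (W : Set G) := hNW
  set M := W ⊔ N
  have hSM : (S : Subgroup G) ≤ M := le_normalizer.trans le_sup_right
  have hMn : M ≤ normalizer (W : Set G) := sup_le le_normalizer hNW
  have hWodd' : Odd (Nat.card W) := Nat.not_even_iff_odd.1 fun h => hWodd (even_iff_two_dvd.1 h)
  have hS1 : ∃ t ∈ (S : Subgroup G), orderOf t = 2 := by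
    obtain ⟨y, hy⟩ := exists_prime_orderOf_dvd_card' (G := (S : Subgroup G)) 2 (by rw [hS]; norm_num)
    exact ⟨y, y.2, by rw [Subgroup.orderOf_coe, hy]⟩
  obtain ⟨t, htS, ht⟩ := hS1
  have ht1 : t ≠ 1 := CfsgLib.Invol.invol_ne_one ht
  -- `M` is proper of order prime to 3
  have hMtop : M ≠ ⊤ := fun h => by
    have hWnorm : W.Normal := normalizer_eq_top_iff.1 (top_le_iff.1 (h ▸ hMn))
    rcases hWnorm.eq_bot_or_eq_top with hW | hW
    · have hN : N = ⊤ := by
        have : M = N := by simp [M, hW]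
        rw [← this, h]
      refine hN3 ?_
      rw [hN, card_top]
      exact (by norm_num : 3 ∣ 24).trans hd
    · refine hWodd ?_
      rw [hW, card_top]
      exact (by norm_num : 2 ∣ 24).trans hd
  have hM3 : ¬ 3 ∣ Nat.card M := fun h => hprop M hMtop (by
    have h8 : 8 ∣ Nat.card M := hS ▸ card_dvd_of_le hSM
    omega)
  -- centralizers of the involutions of `S`
  have hCle : ∀ a ∈ (S : Subgroup G), a ≠ 1 → centralizer ({a} : Set G) ≤ M := fun a ha ha1 => by
    obtain ⟨-, -, hK, hSC⟩ := hfacts ha ha1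
    set C := centralizer ({a} : Set G)
    have hθle : θ a ≤ C := map_subtype_le _
    have hnorm : (S : Subgroup G) ≤ normalizer (θ a : Set G) :=
      hSC.trans (CfsgLib.Comp.centralizer_le_normalizer_centralizerPPrimeCore a)
    have hsup : θ a ⊔ (S : Subgroup G) = C := by
      refine eq_of_le_of_card_ge (sup_le hθle hSC) (le_of_eq ?_)
      have h1 : Nat.card (θ a) = Nat.card (Cfsg.pPrimeCore 2 ↥C) :=
        card_map_of_injective C.subtype_injective
      refine Nat.dvd_antisymm ?_ (card_dvd_of_le (sup_le hθle hSC))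
      rw [hK, ← h1, ← hS]
      refine Nat.Coprime.mul_dvd_of_dvd_of_dvd ?_ (card_dvd_of_le le_sup_right) (card_dvd_of_le le_sup_left)
      rw [hS, show 8 = 2 ^ 3 from rfl]
      exact Nat.Coprime.pow_left 3 ((Nat.prime_two.coprime_iff_not_dvd).2 (hθp a ha ha1))
    exact hsup ▸ sup_le ((hθW a ha ha1).trans le_sup_left) (hSM)
  -- involutions of `M`
  have hOS : ∀ x ∈ M, orderOf x = 2 → ∃ s ∈ (S : Subgroup G), s⁻¹ * x ∈ W := fun x hx hx2 => by
    have hmem : x ∈ ((W : Set G) * (N : Set G)) := by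
      rw [← coe_mul_of_right_le_normalizer_left W N hNW]
      exact hx
    obtain ⟨w, hw, n, hn, rfl⟩ := Set.mem_mul.1 hmem
    obtain ⟨e, j, hj, hej⟩ := Nat.exists_eq_two_pow_mul_odd (orderOf_pos n).ne'
    refine ⟨n ^ j, ?_, ?_⟩
    · obtain ⟨U, hU⟩ := (IsPGroup.of_card (p := 2) (n := e) (G := zpowers (⟨n ^ j, pow_mem hn j⟩ : N))
        (by rw [Nat.card_zpowers, Subgroup.orderOf_mk, orderOf_pow' n (by obtain ⟨i, rfl⟩ := hj; omega),
          hej, Nat.gcd_eq_right (dvd_mul_left j _), Nat.mul_div_cancel _ (by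
            obtain ⟨i, rfl⟩ := hj; omega)])).exists_le_sylow
      have hSn : ((S.subtype (le_normalizer : (S : Subgroup G) ≤ N)) : Subgroup N).Normal :=
        normal_in_normalizer
      have := Sylow.unique_of_normal _ hSn
      have hU' := hU (mem_zpowers _)
      rw [Subsingleton.elim U (S.subtype le_normalizer)] at hU'
      exact mem_subgroupOf.1 hU'
    · obtain ⟨i, hi⟩ := hj
      let q := QuotientGroup.mk' (W.subgroupOf (normalizer (W : Set G)))
      let n' : ↥(normalizer (W : Set G)) := ⟨n, hNW hn⟩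
      let x' : ↥(normalizer (W : Set G)) := ⟨w * n, mul_mem (le_normalizer hw) (hNW hn)⟩
      have e1 : q n' = q x' := ((QuotientGroup.eq).2 (mem_subgroupOf.2 (by
        show n⁻¹ * (w * n) ∈ W
        have := (mem_normalizer_iff.1 (inv_mem (hNW hn)) w).1 hw
        simpa [mul_assoc] using this)))
      have e2 : q x' ^ 2 = 1 := by
        rw [← map_pow]
        rw [show x' ^ 2 = 1 from Subtype.ext (by
          rw [SubmonoidClass.coe_pow]; exact hx2 ▸ pow_orderOf_eq_one (w * n)), map_one]
      have e3 : q (n' ^ j) = q x' := by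
        rw [map_pow, e1, hi, pow_succ, pow_mul, e2, one_pow, one_mul]
      exact mem_subgroupOf.1 ((QuotientGroup.eq).1 e3)
  have hconjS : ∀ x ∈ M, orderOf x = 2 → ∃ m ∈ M, m * x * m⁻¹ ∈ (S : Subgroup G) := fun x hx hx2 => by
    obtain ⟨R, hR⟩ := (IsPGroup.of_card (p := 2) (n := 1) (G := Subgroup.zpowers (⟨x, hx⟩ : M))
      (by rw [Nat.card_zpowers, Subgroup.orderOf_mk, hx2, pow_one])).exists_le_sylow
    obtain ⟨a, ha⟩ := MulAction.exists_smul_eq M R (S.subtype hSM)
    have hmem : a * ⟨x, hx⟩ * a⁻¹ ∈ (S : Subgroup G).subgroupOf M := by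
      rw [← S.coe_subtype hSM, ← ha, Sylow.coe_subgroup_smul]
      exact Subgroup.smul_mem_pointwise_smul _ (MulAut.conj a) _ (hR (Subgroup.mem_zpowers _))
    exact ⟨a, a.2, hmem⟩
  have hcen : ∀ x ∈ M, orderOf x = 2 → centralizer ({x} : Set G) ≤ M := fun x hx hx2 c hc => by
    obtain ⟨m, hm, hms⟩ := hconjS x hx hx2
    have hm1 : m * x * m⁻¹ ≠ 1 := fun e => CfsgLib.Invol.invol_ne_one hx2 (conj_eq_one_iff.1 e)
    have hmem : m * c * m⁻¹ ∈ centralizer ({m * x * m⁻¹} : Set G) := by
      rw [mem_centralizer_singleton_iff] at hc ⊢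
      calc m * c * m⁻¹ * (m * x * m⁻¹) = m * (c * x) * m⁻¹ := by group
        _ = m * (x * c) * m⁻¹ := by rw [hc]
        _ = m * x * m⁻¹ * (m * c * m⁻¹) := by group
    have := mul_mem (mul_mem (inv_mem hm) (hCle _ hms hm1 hmem)) hm
    simpa [mul_assoc] using this
  obtain ⟨h3t, -, hKt, -⟩ := hfacts htS ht1
  let D : EightData G :=
    { S := S, t := t, M := M, O := W, h8 := hS, hexp := hexp, htS := htS, ht := ht
      hfus := fun x hx hx1 => hfus t htS ht1 x hx hx1
      hK := hKt
      hOM := le_sup_left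
      hOn := fun m hm o ho => (mem_normalizer_iff.1 (hMn hm) o).1 ho
      hOodd := hWodd'
      hNS := le_sup_right
      hcen := hcen
      hOS := hOS }
  exact D.absurd_of_three hna ((by norm_num : 3 ∣ 24).trans hd) (not_nine_dvd hd hc) hM3

theorem hasOrd_twentyfour_aux : ∀ (n : ℕ) (G : Type u) [Group G] [Finite G], Nat.card G = n →
    24 ∣ Nat.card G → Nat.Coprime 24 (Nat.card G / 24) → HasOrd 24 G := by
  intro n
  induction n using Nat.strong_induction_on with
  | _ n ih =>
  intro G _ _ hn hd hc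
  have := Fact.mk Nat.prime_two
  have := Fact.mk Nat.prime_three
  rcases twentyfour_cases hd hc with h | ⟨S, hS, hexp, hN3, hfus⟩
  · exact h
  by_contra hno
  have hprop : ∀ X : Subgroup G, X ≠ ⊤ → ¬ 24 ∣ Nat.card X := fun X hX h24 => by
    have hlt : Nat.card X < n := hn ▸ lt_of_le_of_ne
      (Nat.le_of_dvd Nat.card_pos (card_subgroup_dvd_card X))
      (fun e => hX (eq_top_of_card_eq X e))
    exact hno (hasOrd_of_le (ih _ hlt ↥X rfl h24
      (coprime24_of_dvd hd hc (card_subgroup_dvd_card X) h24)))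
  have h3G : 3 ∣ Nat.card G := (by norm_num : 3 ∣ 24).trans hd
  have : Nontrivial G := Finite.one_lt_card_iff_nontrivial.1
    (lt_of_lt_of_le (by norm_num) (Nat.le_of_dvd Nat.card_pos hd))
  have hsimple : IsSimpleGroup G := ⟨fun N hN => by
    by_contra hne
    push Not at hne
    obtain ⟨hNb, hNt⟩ := hne
    by_cases h2 : 2 ∣ Nat.card N
    · obtain ⟨y, hy⟩ := exists_prime_orderOf_dvd_card' (G := N) 2 h2
      have hy' : orderOf (y : G) = 2 := by rw [Subgroup.orderOf_coe, hy]
      obtain ⟨R, hR⟩ := (IsPGroup.of_card (p := 2) (n := 1) (G := Subgroup.zpowers (y : G))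
        (by rw [Nat.card_zpowers, hy', pow_one])).exists_le_sylow
      obtain ⟨a, ha⟩ := MulAction.exists_smul_eq G R S
      have hs : a * y * a⁻¹ ∈ (S : Subgroup G) := by
        rw [← ha, Sylow.coe_subgroup_smul]
        exact Subgroup.smul_mem_pointwise_smul _ (MulAut.conj a) _ (hR (Subgroup.mem_zpowers _))
      have hs1 : a * (y : G) * a⁻¹ ≠ 1 :=
        fun e => CfsgLib.Invol.invol_ne_one hy' (conj_eq_one_iff.1 e)
      have hSN : (S : Subgroup G) ≤ N := fun b hb => by
        by_cases hb1 : b = 1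
        · exact hb1 ▸ N.one_mem
        obtain ⟨m, -, hm⟩ := hfus _ hs hs1 b hb hb1
        exact hm ▸ hN.conj_mem _ (hN.conj_mem _ y.2 a) m
      have h8N : 8 ∣ Nat.card N := hS ▸ card_dvd_of_le hSN
      have hN3' : ¬ 3 ∣ Nat.card N := fun h => hprop N hNt (by omega)
      have hfr : normalizer ((S : Subgroup G) : Set G) ⊔ N = ⊤ := by
        have := Sylow.normalizer_sup_eq_top' S hSN
        exact this
      have hd3 : 3 ∣ Nat.card N * Nat.card ↥(normalizer ((S : Subgroup G) : Set G)) := by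
        have := CfsgLib.Comp.card_sup_dvd_mul (H := N) (K := normalizer ((S : Subgroup G) : Set G))
          (by rw [normalizer_eq_top_iff.2 hN]; exact le_top)
        rw [sup_comm, hfr, card_top] at this
        exact h3G.trans this
      rcases (Nat.Prime.dvd_mul Nat.prime_three).1 hd3 with h | h
      · exact hN3' h
      · exact hN3 h
    · have hodd : Odd (Nat.card N) := Nat.not_even_iff_odd.1 fun h => h2 (even_iff_two_dvd.1 h)
      by_cases h3 : 3 ∣ Nat.card N
      · let R : Sylow 3 N := default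
        have hfr := Sylow.normalizer_sup_eq_top R
        set R' : Subgroup G := (R : Subgroup N).map N.subtype
        have hR3 : Nat.card R' = 3 := by
          rw [card_map_of_injective N.subtype_injective, R.card_eq_multiplicity]
          have : (Nat.card N).factorization 3 = 1 := by
            refine le_antisymm ?_ ((Nat.Prime.dvd_iff_one_le_factorization Nat.prime_three
              Nat.card_pos.ne').1 h3)
            by_contra hlt
            exact not_nine_dvd hd hc (((Nat.Prime.pow_dvd_iff_le_factorization Nat.prime_three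
              Nat.card_pos.ne').2 (by omega : 2 ≤ _)).trans (card_subgroup_dvd_card N))
          rw [this, pow_one]
        have h8 : 8 ∣ Nat.card ↥(normalizer (R' : Set G)) := by
          have := CfsgLib.Comp.card_sup_dvd_mul (H := N) (K := normalizer (R' : Set G))
            (by rw [normalizer_eq_top_iff.2 hN]; exact le_top)
          rw [sup_comm, hfr, card_top] at this
          refine (Nat.Coprime.dvd_of_dvd_mul_left ?_ (((by norm_num : 8 ∣ 24).trans hd).trans this))
          exact (Nat.Coprime.pow_left 3 (Nat.coprime_two_left.2 hodd) : (2 ^ 3).Coprime _)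
        obtain ⟨P, hP⟩ := Sylow.exists_subgroup_card_pow_prime 2 (n := 3) h8
        refine hno ⟨R' ⊔ P.map (normalizer (R' : Set G)).subtype, Nat.dvd_antisymm ?_ ?_⟩
        · have := CfsgLib.Comp.card_sup_dvd_mul (H := R')
            (K := P.map (normalizer (R' : Set G)).subtype) (map_subtype_le P)
          rwa [card_map_of_injective (normalizer (R' : Set G)).subtype_injective, hP, hR3] at this
        · refine (Nat.Coprime.mul_dvd_of_dvd_of_dvd (by norm_num) ?_ ?_ : 3 * 8 ∣ _)
          · exact hR3 ▸ card_dvd_of_le le_sup_left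
          · have := card_dvd_of_le (le_sup_right :
              P.map (normalizer (R' : Set G)).subtype ≤ R' ⊔ P.map (normalizer (R' : Set G)).subtype)
            rwa [card_map_of_injective (normalizer (R' : Set G)).subtype_injective, hP] at this
      · have hcard := card_eq_card_quotient_mul_card_subgroup N
        have h24 : 24 ∣ Nat.card (G ⧸ N) := by
          refine Nat.Coprime.dvd_of_dvd_mul_right ?_ (hcard ▸ hd)
          exact (Nat.Coprime.mul_left (Nat.Coprime.pow_left 3 (Nat.coprime_two_left.2 hodd))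
            ((Nat.prime_three.coprime_iff_not_dvd).2 h3) : (2 ^ 3 * 3).Coprime _)
        have hlt : Nat.card (G ⧸ N) < n := by
          rw [← hn, hcard]
          exact lt_mul_of_one_lt_right Nat.card_pos (N.one_lt_card_iff_ne_bot.2 hNb)
        obtain ⟨H, hH⟩ := ih _ hlt (G ⧸ N) rfl h24
          (coprime24_of_dvd hd hc (card_quotient_dvd_card N) h24)
        set X := H.comap (QuotientGroup.mk' N)
        have hX : Nat.card X = 24 * Nat.card N := by
          have h1 := card_mul_index X
          rw [index_comap_of_surjective H (QuotientGroup.mk'_surjective N), hcard,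
            ← card_mul_index H, hH] at h1
          exact Nat.eq_of_mul_eq_mul_right (Nat.pos_of_ne_zero index_ne_zero_of_finite)
            (h1.trans (by ring))
        have hsolX : Group.IsSolvable X := by
          let f : X →* H := (QuotientGroup.mk' N).subgroupComap H
          have hHs : Group.IsSolvable H := CfsgLib.StructC.AltEight.solvable_of_dvd (a := 3) (b := 1) (hH ▸ dvd_rfl)
          refine solvable_of_ker_le_range (Subgroup.inclusion (show N ≤ X from fun y hy => by
            show QuotientGroup.mk' N y ∈ H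
            rw [QuotientGroup.mk'_apply, (QuotientGroup.eq_one_iff y).2 hy]
            exact H.one_mem)) f ?_ (hG' := Cfsg.Agent.S0205.result hodd)
          intro y hy
          exact ⟨⟨y, (QuotientGroup.eq_one_iff _).1 (congrArg Subtype.val hy)⟩, Subtype.ext rfl⟩
        exact hno (hasOrd_of_solvable (by norm_num) hd hc hsolX (hX ▸ dvd_mul_right 24 _))⟩
  have hna : ∀ x : G, (∀ y, x * y = y * x) → x = 1 := fun x hx => by
    rcases (inferInstance : (center G).Normal).eq_bot_or_eq_top with h | h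
    · exact mem_bot.1 (h ▸ mem_center_iff.2 fun y => (hx y).symm)
    · have hcomm : IsMulCommutative G := ⟨⟨fun a b => (mem_center_iff.1 (h ▸ mem_top a) b).symm⟩⟩
      exact absurd (hasOrd_of_solvable_top (by norm_num) hd hc
        (Group.isSolvable_of_comm fun a b => hcomm.is_comm.comm a b)) hno
  exact fused_case hna hd hc hno hprop S hS hexp hN3 hfus

/-- `m = 24`. -/
theorem hasOrd_twentyfour (hd : 24 ∣ Nat.card G) (hc : Nat.Coprime 24 (Nat.card G / 24)) :
    HasOrd 24 G := hasOrd_twentyfour_aux _ G rfl hd hc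

end CfsgLib.HallNumber
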