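import Cfsg.Agent.Lib.HallNumber.Converse
import Cfsg.Agent.Lib.HallNumber.TwentyFour
import Cfsg.Agent.Lib.HallNumber.Sixty

/-!
The Hall numbers, given the simple groups with dihedral Sylow 2-subgroups (needed only for 60).
-/

set_option autoImplicit false

namespace CfsgLib.HallNumber

/-- The Hall numbers, from the simple groups with dihedral Sylow 2-subgroups. -/
theorem hall_numbers_of_simpleGW (hGW : ∀ N : ℕ, CfsgLib.Recog.GW.SimpleGW.{0} N) (m : ℕ)
    (hm : 2 ≤ m) :
    (∀ (G : Type) [Group G] [Finite G], m ∣ Nat.card G → m.Coprime (Nat.card G / m) →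
        ∃ H : Subgroup G, Nat.card H = m) ↔
    (IsPrimePow m ∨ m % 4 = 2 ∨ m = 12 ∨ m = 24 ∨ m = 60) := by
  constructor
  · intro h
    by_contra hn
    obtain ⟨G, iG, iF, hd, hc, hno⟩ := exists_no_hall m hm hn
    obtain ⟨H, hH⟩ := h G hd hc
    exact hno H hH
  · intro h G _ _ hd hc
    rcases h with h | h | rfl | rfl | rfl
    · obtain ⟨p, k, hp, -, rfl⟩ := (isPrimePow_nat_iff m).1 h
      have := Fact.mk hp
      exact Sylow.exists_subgroup_card_pow_prime p hd
    · exact hasOrd_two_mod_four h hd hc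
    · exact hasOrd_twelve hd hc
    · exact hasOrd_twentyfour hd hc
    · exact hasOrd_sixty (hGW _) hd hc

end CfsgLib.HallNumber
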