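import Cfsg.Agent.Lib.Solvable.Hall
import Cfsg.Agent.Lib.Comp.Subnormal
import Cfsg.Agent.Lib.Coprime.Basic
import Cfsg.Agent.Lib.PGroup.AnisotropicPair
import Cfsg.Agent.S0205
import Cfsg.Agent.S0071
import Mathlib.GroupTheory.Perm.Cycle.Type

/-!
Hall numbers: the cases `m ≡ 2 (mod 4)` and `m = 12`, and the reduction of `m = 24` to an elementary
abelian Sylow 2-subgroup fused in its normalizer.
-/

set_option autoImplicit false
set_option linter.unusedSectionVars false

namespace CfsgLib.HallNumber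

open Subgroup

universe u

variable {G : Type u} [Group G] [Finite G]

/-- A subgroup of order `m` exists. -/
def HasOrd (m : ℕ) (G : Type u) [Group G] : Prop := ∃ H : Subgroup G, Nat.card H = m

theorem hasOrd_of_le {m : ℕ} {X : Subgroup G} (h : HasOrd m ↥X) : HasOrd m G :=
  let ⟨H, hH⟩ := h
  ⟨H.map X.subtype, (card_map_of_injective X.subtype_injective).trans hH⟩

theorem isSolvable_ext (N : Subgroup G) [N.Normal] (hN : Group.IsSolvable N)
    (hQ : Group.IsSolvable (G ⧸ N)) : Group.IsSolvable G := by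
  exact solvable_of_ker_le_range N.subtype (QuotientGroup.mk' N) (by
    rw [QuotientGroup.ker_mk', range_subtype])

/-- A group with a normal 2-complement is solvable. -/
theorem isSolvable_of_complement (S : Sylow 2 G) {N : Subgroup G} (hN : N.Normal)
    (hc : N.IsComplement' (S : Subgroup G)) : Group.IsSolvable G := by
  have hi : N.index = Nat.card (S : Subgroup G) := hc.symm.index_eq_card
  have hodd : Odd (Nat.card N) := by
    rw [← hc.index_eq_card, ← Nat.not_even_iff_odd, even_iff_two_dvd]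
    exact S.not_dvd_index
  refine isSolvable_ext N (Cfsg.Agent.S0205.result hodd) ?_
  obtain ⟨k, hk⟩ := IsPGroup.iff_card.1 S.2
  have hp : IsPGroup 2 (G ⧸ N) := IsPGroup.of_card (n := k) (by rw [← index_eq_card, hi, hk])
  have := hp.isNilpotent
  infer_instance

/-- Hall subgroups of a solvable subgroup. -/
theorem hasOrd_of_solvable {m : ℕ} (hm : 0 < m) (hd : m ∣ Nat.card G)
    (hc : m.Coprime (Nat.card G / m)) {X : Subgroup G} (hX : Group.IsSolvable X)
    (hmX : m ∣ Nat.card X) : HasOrd m G := by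
  obtain ⟨l, hl⟩ := hd
  obtain ⟨k, hk⟩ := hmX
  rw [hl, Nat.mul_div_cancel_left l hm] at hc
  have hkl : k ∣ l := Nat.dvd_of_mul_dvd_mul_left hm (hk ▸ hl ▸ card_subgroup_dvd_card X)
  exact hasOrd_of_le (CfsgLib.Solvable.exists_hall hk (hc.coprime_dvd_right hkl))

theorem hasOrd_of_solvable_top {m : ℕ} (hm : 0 < m) (hd : m ∣ Nat.card G)
    (hc : m.Coprime (Nat.card G / m)) (hG : Group.IsSolvable G) : HasOrd m G :=
  hasOrd_of_solvable hm hd hc (X := ⊤) (CfsgLib.Coprime.isSolvable_of_le
    (B := ⊤) (Group.isSolvable_of_isSolvable_injective (f := (⊤ : Subgroup G).subtype)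
      (⊤ : Subgroup G).subtype_injective) le_rfl) (by rwa [card_top])

/-- A subgroup normalized by an element of order 3. -/
theorem exists_card_three_mul {Q : Subgroup G} (h2 : IsPGroup 2 Q)
    (h3 : 3 ∣ Nat.card ↥(normalizer (Q : Set G))) :
    HasOrd (3 * Nat.card Q) G := by
  have := Fact.mk Nat.prime_three
  have := Fact.mk Nat.prime_two
  obtain ⟨x, hx⟩ := exists_prime_orderOf_dvd_card' 3 h3
  have hxo : orderOf (x : G) = 3 := (Subgroup.orderOf_coe x).trans hx
  have hle : zpowers (x : G) ≤ normalizer (Q : Set G) := zpowers_le.2 x.2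
  have hcop : (Nat.card Q).Coprime 3 := by
    obtain ⟨k, hk⟩ := IsPGroup.iff_card.1 h2
    rw [hk]; exact Nat.Coprime.pow_left k (by norm_num)
  refine ⟨Q ⊔ zpowers (x : G), Nat.dvd_antisymm ?_ ?_⟩
  · have := CfsgLib.Comp.card_sup_dvd_mul hle
    rwa [Nat.card_zpowers, hxo, mul_comm] at this
  · refine hcop.symm.mul_dvd_of_dvd_of_dvd ?_ (card_dvd_of_le le_sup_left)
    have := card_dvd_of_le (le_sup_right : zpowers (x : G) ≤ Q ⊔ zpowers (x : G))
    rwa [Nat.card_zpowers, hxo] at this

/-- An element of odd order prime to 3 acting on a subgroup of order 2, 4 or 8 centralizes it, or is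
transitive on the seven non-identity elements. -/
theorem action_cases {Q : Subgroup G} (hQ : Nat.card Q ∣ 8) {g : G}
    (hg : g ∈ normalizer (Q : Set G)) (hodd : Odd (orderOf g)) (h3 : ¬ 3 ∣ orderOf g) :
    g ∈ centralizer (Q : Set G) ∨ (Nat.card Q = 8 ∧
      ∀ a ∈ Q, a ≠ 1 → ∀ b ∈ Q, b ≠ 1 → ∃ k : ℤ, g ^ k * a * (g ^ k)⁻¹ = b) := by
  classical
  have := Fintype.ofFinite Q
  have hQ8 : Nat.card Q ≤ 8 := Nat.le_of_dvd (by norm_num) hQ
  let φ : ↥(normalizer (Q : Set G)) →* Equiv.Perm Q :=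
    { toFun := fun x => (Subgroup.normalizerMonoidHom Q x).toEquiv
      map_one' := by ext; simp
      map_mul' := fun x y => by ext; simp }
  set σ := φ ⟨g, hg⟩
  have hσv : ∀ (k : ℤ) (a : Q), (((σ ^ k) a : Q) : G) = g ^ k * a * (g ^ k)⁻¹ := fun k a => by
    rw [← map_zpow]
    show (((⟨g, hg⟩ ^ k : ↥(normalizer (Q : Set G))) : G)) * a *
      (((⟨g, hg⟩ ^ k : ↥(normalizer (Q : Set G))) : G))⁻¹ = _
    rw [SubgroupClass.coe_zpow]
  have hord : orderOf σ ∣ orderOf g := by
    have := orderOf_map_dvd φ ⟨g, hg⟩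
    rwa [Subgroup.orderOf_mk] at this
  have hfix1 : σ 1 = 1 := by
    apply Subtype.ext
    have := hσv 1 1
    simpa using this
  have hparts : ∀ n ∈ σ.cycleType, 5 ≤ n ∧ Odd n := fun n hn => by
    have h2 := Equiv.Perm.two_le_of_mem_cycleType hn
    have hd : n ∣ orderOf g := (Multiset.dvd_lcm hn).trans (σ.lcm_cycleType ▸ hord)
    have ho : Odd n := hodd.of_dvd_nat hd
    obtain ⟨j, hj⟩ := ho
    refine ⟨?_, ⟨j, hj⟩⟩
    rcases Nat.lt_or_ge n 5 with h | h
    · have : n = 3 := by omega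
      exact absurd (this ▸ hd) h3
    · exact h
  have hsupp : σ.support.card < Nat.card Q := by
    rw [Nat.card_eq_fintype_card, ← Finset.card_univ]
    refine Finset.card_lt_card (Finset.ssubset_iff_subset_ne.2 ⟨Finset.subset_univ _, fun e => ?_⟩)
    exact Equiv.Perm.notMem_support.2 hfix1 (e ▸ Finset.mem_univ 1)
  rcases Multiset.empty_or_exists_mem σ.cycleType with h0 | ⟨n, hn⟩
  · left
    rw [Equiv.Perm.cycleType_eq_zero] at h0
    refine mem_centralizer_iff.2 fun a ha => ?_
    have := hσv 1 ⟨a, ha⟩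
    rw [h0] at this
    simp only [zpow_one, Equiv.Perm.one_apply] at this
    rw [eq_mul_inv_iff_mul_eq] at this
    exact this
  obtain ⟨h5, hno⟩ := hparts n hn
  have hsum := σ.sum_cycleType
  obtain ⟨r, hr⟩ := Multiset.exists_cons_of_mem hn
  rw [hr, Multiset.sum_cons] at hsum
  have hr0 : r = 0 := by
    by_contra h
    obtain ⟨b, hb⟩ := Multiset.exists_mem_of_ne_zero h
    obtain ⟨hb5, -⟩ := hparts b (hr ▸ Multiset.mem_cons_of_mem hb)
    have := Multiset.single_le_sum (fun _ _ => Nat.zero_le _) b hb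
    omega
  rw [hr0, Multiset.sum_zero, add_zero] at hsum
  have hcard8 : Nat.card Q = 8 := by
    have : 6 ≤ Nat.card Q := by omega
    interval_cases Nat.card Q <;> omega
  -- the fixed points form a subgroup
  let F : Subgroup Q :=
    { carrier := {a | σ a = a}
      one_mem' := hfix1
      mul_mem' := fun {a b} ha hb => by
        have e := (Subgroup.normalizerMonoidHom Q ⟨g, hg⟩).map_mul a b
        simp only [Set.mem_setOf_eq] at ha hb ⊢
        exact e.trans (congrArg₂ (· * ·) ha hb)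
      inv_mem' := fun {a} ha => by
        have e := (Subgroup.normalizerMonoidHom Q ⟨g, hg⟩).map_inv a
        simp only [Set.mem_setOf_eq] at ha ⊢
        exact e.trans (congrArg (·⁻¹) ha) }
  have hF : Nat.card F + σ.support.card = 8 := by
    have h1 : Nat.card F = (Finset.univ.filter fun a : Q => σ a = a).card := by
      rw [← Fintype.card_subtype, ← Nat.card_eq_fintype_card]
      rfl
    rw [h1, show σ.support = Finset.univ.filter (fun a : Q => ¬ σ a = a) from by ext; simp,
      Finset.card_filter_add_card_filter_not, Finset.card_univ, ← Nat.card_eq_fintype_card, hcard8]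
  have hFd : Nat.card F ∣ 8 := hcard8 ▸ card_subgroup_dvd_card F
  have hF1 : Nat.card F = 1 := by
    obtain ⟨j, hj⟩ := hno
    have : Nat.card F ≤ 3 := by omega
    interval_cases Nat.card F <;> omega
  right
  refine ⟨hcard8, fun a ha ha1 b hb hb1 => ?_⟩
  have hFbot := Subgroup.eq_bot_of_card_eq F hF1
  have hmem : ∀ c : Q, c ≠ 1 → σ c ≠ c := fun c hc e => hc (mem_bot.1 (hFbot ▸ (e : c ∈ F)))
  have hcyc : σ.IsCycle := Equiv.Perm.card_cycleType_eq_one.1 (by rw [hr, hr0]; rfl)
  obtain ⟨k, hk⟩ := hcyc.sameCycle (hmem ⟨a, ha⟩ fun e => ha1 (congrArg Subtype.val e))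
    (hmem ⟨b, hb⟩ fun e => hb1 (congrArg Subtype.val e))
  exact ⟨k, by rw [← hσv k ⟨a, ha⟩, hk]⟩

/-- The local criterion: either an element acts as in the transitive case, or a 2-subgroup has a
normalizer of order divisible by 3, or there is a normal 2-complement. -/
theorem complement_cases (S : Sylow 2 G) (hS : Nat.card (S : Subgroup G) ∣ 8) :
    Group.IsSolvable G ∨
      ∃ Q : Subgroup G, Q ≤ (S : Subgroup G) ∧ ∃ g ∈ normalizer (Q : Set G),
        Odd (orderOf g) ∧ g ∉ centralizer (Q : Set G) := by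
  by_cases h : ∀ Q : Subgroup G, Q ≤ (S : Subgroup G) → ∀ g ∈ normalizer (Q : Set G),
      Nat.Coprime (orderOf g) 2 → g ∈ centralizer (Q : Set G)
  · obtain ⟨N, hN, hc⟩ := (Cfsg.Agent.S0071.result S).2 h
    exact Or.inl (isSolvable_of_complement S hN hc)
  · push Not at h
    obtain ⟨Q, hQ, g, hg, ho, hn⟩ := h
    exact Or.inr ⟨Q, hQ, g, hg, Nat.coprime_two_right.1 ho, hn⟩

/-- No element of odd order moves a subgroup of order at most 2, or a subgroup of order 4 which is
cyclic or normalized only with order prime to 3. -/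
theorem mem_centralizer_of_card_le_two {Q : Subgroup G} (hQ : Nat.card Q ≤ 2) {g : G}
    (hg : g ∈ normalizer (Q : Set G)) : g ∈ centralizer (Q : Set G) := by
  refine mem_centralizer_iff.2 fun a ha => ?_
  by_cases h1 : a = 1
  · simp [h1]
  have hb := (mem_normalizer_iff.1 hg a).1 ha
  have e : g * a * g⁻¹ = a := by
    by_contra hne
    have hne1 : g * a * g⁻¹ ≠ 1 := fun e => h1 (conj_eq_one_iff.1 e)
    have hf : Function.Injective ![(⟨1, Q.one_mem⟩ : Q), ⟨a, ha⟩, ⟨g * a * g⁻¹, hb⟩] := by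
      intro i j hij
      fin_cases i <;> fin_cases j <;> simp_all [eq_comm]
    have := Nat.card_le_card_of_injective _ hf
    rw [Nat.card_fin] at this
    omega
  rw [eq_comm]
  exact mul_inv_eq_iff_eq_mul.1 e

/-- `m ≡ 2 (mod 4)`. -/
theorem hasOrd_two_mod_four {m : ℕ} (h2 : m % 4 = 2) (hd : m ∣ Nat.card G)
    (hc : m.Coprime (Nat.card G / m)) : HasOrd m G := by
  have := Fact.mk Nat.prime_two
  refine hasOrd_of_solvable_top (by omega) hd hc ?_
  let S : Sylow 2 G := default
  have hS : Nat.card (S : Subgroup G) ∣ 2 := by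
    obtain ⟨k, hk⟩ := IsPGroup.iff_card.1 S.2
    rw [hk]
    rcases Nat.lt_or_ge k 2 with h | h
    · exact (pow_dvd_pow 2 (by omega : k ≤ 1)).trans (by norm_num)
    · exfalso
      have h4 : 4 ∣ Nat.card G :=
        ((pow_dvd_pow 2 h).trans hk.symm.dvd).trans (card_subgroup_dvd_card _)
      obtain ⟨l, hl⟩ := hd
      rw [hl, Nat.mul_div_cancel_left l (by omega)] at hc
      obtain ⟨j, rfl⟩ : 2 ∣ m := ⟨m / 2, by omega⟩
      have h2l : 2 ∣ j * l := by
        rw [hl, mul_assoc, show 4 = 2 * 2 from rfl] at h4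
        exact Nat.dvd_of_mul_dvd_mul_left (by norm_num) h4
      rcases (Nat.Prime.dvd_mul Nat.prime_two).1 h2l with h' | h'
      · omega
      · exact Nat.not_coprime_of_dvd_of_dvd (by norm_num) (dvd_mul_right 2 j) h' hc
  rcases complement_cases S (hS.trans (by norm_num)) with h | ⟨Q, hQ, g, hg, -, hn⟩
  · exact h
  · exact absurd (mem_centralizer_of_card_le_two
      ((Nat.le_of_dvd (by norm_num) ((card_dvd_of_le hQ).trans hS))) hg) hn

/-- The Sylow 2-subgroup has the order of the 2-part of `m`. -/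
theorem sylow_card_eq [Fact (Nat.Prime 2)] (S : Sylow 2 G) {a b : ℕ} (hb : Odd b)
    (hd : 2 ^ a * b ∣ Nat.card G) (hc : (2 ^ a * b).Coprime (Nat.card G / (2 ^ a * b)))
    (ha : 0 < a) : Nat.card (S : Subgroup G) = 2 ^ a := by
  obtain ⟨l, hl⟩ := hd
  have hpos : 0 < 2 ^ a * b := Nat.mul_pos (by positivity) (by obtain ⟨j, rfl⟩ := hb; omega)
  rw [hl, Nat.mul_div_cancel_left l hpos] at hc
  have hl2 : ¬ 2 ∣ l := fun h => Nat.not_coprime_of_dvd_of_dvd (by norm_num)
    ((dvd_pow_self 2 ha.ne').trans (dvd_mul_right _ b)) h hc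
  have hbl : ¬ 2 ∣ b * l := fun h => ((Nat.Prime.dvd_mul Nat.prime_two).1 h).elim
    (fun h => Nat.not_even_iff_odd.2 hb (even_iff_two_dvd.2 h)) hl2
  rw [S.card_eq_multiplicity, hl, mul_assoc, Nat.factorization_mul (by positivity)
    (fun e => hbl (by rw [e]; exact dvd_zero 2))]
  rw [Finsupp.add_apply, Nat.factorization_eq_zero_of_not_dvd hbl, Nat.Prime.factorization_pow Nat.prime_two,
    Finsupp.single_eq_same, add_zero]

/-- `m = 12`. -/
theorem hasOrd_twelve (hd : 12 ∣ Nat.card G) (hc : Nat.Coprime 12 (Nat.card G / 12)) :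
    HasOrd 12 G := by
  have := Fact.mk Nat.prime_two
  let S : Sylow 2 G := default
  have hS : Nat.card (S : Subgroup G) = 4 :=
    sylow_card_eq S (a := 2) (b := 3) ⟨1, rfl⟩ hd hc (by norm_num)
  rcases complement_cases S (hS ▸ by norm_num) with h | ⟨Q, hQ, g, hg, ho, hn⟩
  · exact hasOrd_of_solvable_top (by norm_num) hd hc h
  have hQ4 : Nat.card Q ∣ 4 := hS ▸ card_dvd_of_le hQ
  rcases Nat.lt_or_ge (Nat.card Q) 3 with h | h
  · exact absurd (mem_centralizer_of_card_le_two (by omega) hg) hn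
  have hQe : Nat.card Q = 4 := by
    have h4 : Nat.card Q ≤ 4 := Nat.le_of_dvd (by norm_num) hQ4
    interval_cases Nat.card Q <;> omega
  by_cases h3 : 3 ∣ orderOf g
  · have := exists_card_three_mul (IsPGroup.of_card (n := 2) hQe)
      (h3.trans (Subgroup.orderOf_dvd_natCard _ hg))
    rwa [hQe] at this
  · rcases action_cases (hQ4.trans (by norm_num)) hg ho h3 with h' | ⟨h', -⟩
    · exact absurd h' hn
    · omega

/-- The centralizer of a four group inside a Sylow 2-subgroup of order 8 has a normal 2-complement. -/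
theorem isSolvable_centralizer_four {Q : Subgroup G} (hQ : Nat.card Q = 4)
    (hexp : ∀ x ∈ Q, x * x = 1) (hS : ∀ S : Sylow 2 G, Nat.card (S : Subgroup G) = 8)
    [Fact (Nat.Prime 2)] : Group.IsSolvable ↥(centralizer (Q : Set G)) := by
  set X := centralizer (Q : Set G)
  have hcomm : ∀ a ∈ Q, ∀ b ∈ Q, a * b = b * a := fun a ha b hb => by
    have h := hexp _ (mul_mem ha hb)
    have e1 : a⁻¹ = a := inv_eq_of_mul_eq_one_left (hexp a ha)
    have e2 : b⁻¹ = b := inv_eq_of_mul_eq_one_left (hexp b hb)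
    have e3 : (a * b)⁻¹ = a * b := inv_eq_of_mul_eq_one_left h
    rw [mul_inv_rev, e1, e2] at e3
    exact e3.symm
  have hQX : Q ≤ X := fun a ha => mem_centralizer_iff.2 fun b hb => hcomm b hb a ha
  let T : Sylow 2 ↥X := default
  have hcent : ∀ (q : ↥X), (q : G) ∈ Q → ∀ y : ↥X, Commute y q := fun q hq y =>
    Subtype.ext (mem_centralizer_iff.1 y.2 _ hq).symm
  have hQp : IsPGroup 2 (Q.subgroupOf X) :=
    IsPGroup.of_card (n := 2) ((Nat.card_congr (subgroupOfEquivOfLe hQX).toEquiv).trans hQ)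
  have hQn : (Q.subgroupOf X).Normal := ⟨fun q hq y => by
    rw [(hcent q (mem_subgroupOf.1 hq) y).eq, mul_inv_cancel_right]; exact hq⟩
  have hQT : Q.subgroupOf X ≤ (T : Subgroup ↥X) := hQp.le_sylow_of_normal T
  have hT8 : Nat.card (T : Subgroup ↥X) ∣ 8 := by
    obtain ⟨S, hS'⟩ := (T.2.map X.subtype).exists_le_sylow
    rw [← hS S, ← card_map_of_injective (K := (T : Subgroup ↥X)) (f := X.subtype) X.subtype_injective]
    exact card_dvd_of_le hS'
  have hidx : ((Q.subgroupOf X).subgroupOf (T : Subgroup ↥X)).index ≤ 2 := by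
    have h := card_mul_index ((Q.subgroupOf X).subgroupOf (T : Subgroup ↥X))
    rw [Nat.card_congr (subgroupOfEquivOfLe hQT).toEquiv,
      Nat.card_congr (subgroupOfEquivOfLe hQX).toEquiv, hQ] at h
    have := Nat.le_of_dvd (by norm_num) hT8
    omega
  rcases complement_cases T hT8 with h | ⟨R, hR, g, hg, ho, hn⟩
  · exact h
  exfalso
  refine hn (mem_centralizer_iff.2 fun r hr => ?_)
  by_cases hrQ : (r : G) ∈ Q
  · exact (hcent r hrQ g).eq.symm
  set r' := g * r * g⁻¹ with hr'
  have hr'R : r' ∈ R := (mem_normalizer_iff.1 hg r).1 hr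
  have hr'Q : (r' : G) ∉ Q := fun h => hrQ (by
    have h' := hcent r' h g⁻¹
    have e : r' = r := by
      calc r' = g⁻¹ * r' * g := by rw [h'.eq, inv_mul_cancel_right]
        _ = r := by rw [hr']; group
    rwa [e] at h)
  set A := (Q.subgroupOf X).subgroupOf (T : Subgroup ↥X)
  have hA : A.index = 2 := by
    have h0 := A.index_ne_zero_of_finite
    rcases Nat.lt_or_ge A.index 2 with h | h
    · have h1 : A = ⊤ := index_eq_one.1 (by omega)
      exact absurd (h1 ▸ mem_top (⟨r, hR hr⟩ : (T : Subgroup ↥X)) :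
        (⟨r, hR hr⟩ : (T : Subgroup ↥X)) ∈ A) hrQ
    · omega
  have hq : ((r⁻¹ * r' : ↥X) : G) ∈ Q := by
    have h := (mul_mem_iff_of_index_two hA (a := (⟨r, hR hr⟩ : (T : Subgroup ↥X))⁻¹)
      (b := ⟨r', hR hr'R⟩)).2 (iff_of_false (fun h => hrQ (by
        have := inv_mem h
        rw [inv_inv] at this
        exact this)) hr'Q)
    exact h
  have hsq : g * g * r * (g * g)⁻¹ = r := by
    have hqq : (r⁻¹ * r') * (r⁻¹ * r') = 1 := Subtype.ext (hexp _ hq)
    calc g * g * r * (g * g)⁻¹ = g * r' * g⁻¹ := by rw [hr']; group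
      _ = g * (r * (r⁻¹ * r')) * g⁻¹ := by group
      _ = (g * r * g⁻¹) * (g * (r⁻¹ * r') * g⁻¹) := by group
      _ = r' * (r⁻¹ * r') := by rw [(hcent _ hq g).eq, mul_inv_cancel_right, ← hr']
      _ = r * ((r⁻¹ * r') * (r⁻¹ * r')) := by group
      _ = r := by rw [hqq, mul_one]
  obtain ⟨j, hj⟩ := ho
  have hc2 : Commute (g * g) r := mul_inv_eq_iff_eq_mul.1 hsq
  have hg1 : g = (g * g) ^ (j + 1) := by
    have := pow_orderOf_eq_one g
    calc g = g ^ orderOf g * g := by rw [this, one_mul]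
      _ = (g * g) ^ (j + 1) := by rw [hj, ← pow_succ, ← pow_two, ← pow_mul]; congr 1
  have := hc2.pow_left (j + 1)
  rw [← hg1] at this
  exact this.eq.symm

/-- An element of odd order centralizes a cyclic group of order 4 which it normalizes. -/
theorem mem_centralizer_cyclic_four {Q : Subgroup G} (he : Nat.card Q = 4) {g : G}
    (hg : g ∈ normalizer (Q : Set G)) (ho : Odd (orderOf g)) {x : G} (hx : x ∈ Q)
    (hne : x * x ≠ 1) : g ∈ centralizer (Q : Set G) := by
  classical
  have hox : orderOf x = 4 := by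
    have hd4 : orderOf x ∣ 2 ^ 2 := by
      have := Subgroup.orderOf_dvd_natCard Q hx
      rw [he] at this; exact this
    obtain ⟨i, hi, hi'⟩ := (Nat.dvd_prime_pow Nat.prime_two).1 hd4
    interval_cases i
    · exact absurd (by rw [orderOf_eq_one_iff.1 hi', one_mul]) hne
    · exact absurd (by rw [← pow_two, ← show orderOf x = 2 from hi']; exact pow_orderOf_eq_one x) hne
    · exact hi'
  have hQx : zpowers x = Q := eq_of_le_of_card_ge (zpowers_le.2 hx) (by rw [Nat.card_zpowers, hox, he])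
  have hgx : g * x * g⁻¹ ∈ zpowers x := hQx.symm ▸ (mem_normalizer_iff.1 hg x).1 hx
  obtain ⟨i, hi0, hi⟩ := Finset.mem_image.1 ((mem_zpowers_iff_mem_range_orderOf).1 hgx)
  have hord : orderOf (g * x * g⁻¹) = orderOf x :=
    orderOf_injective (MulAut.conj g).toMonoidHom (MulEquiv.injective _) x
  rw [← hi, hox] at hord
  rw [hox, Finset.mem_range] at hi0
  have h4 : x ^ 4 = 1 := by rw [← hox]; exact pow_orderOf_eq_one x
  have hsq : g * g * x * (g * g)⁻¹ = x := by
    have e : g * g * x * (g * g)⁻¹ = (x ^ i) ^ i := by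
      calc g * g * x * (g * g)⁻¹ = g * (g * x * g⁻¹) * g⁻¹ := by group
        _ = g * x ^ i * g⁻¹ := by rw [hi]
        _ = (g * x * g⁻¹) ^ i := conj_pow.symm
        _ = (x ^ i) ^ i := by rw [hi]
    rw [e, ← pow_mul]
    interval_cases i
    · rw [pow_zero, orderOf_one] at hord; omega
    · rw [mul_one, pow_one]
    · rw [orderOf_pow' x (by norm_num), hox] at hord; norm_num at hord
    · rw [show 3 * 3 = 4 * 2 + 1 from rfl, pow_add, pow_mul, h4, one_pow, one_mul, pow_one]
  obtain ⟨j, hj⟩ := ho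
  have hg1 : g = (g * g) ^ (j + 1) := by
    calc g = g ^ orderOf g * g := by rw [pow_orderOf_eq_one, one_mul]
      _ = (g * g) ^ (j + 1) := by rw [hj, ← pow_succ, ← pow_two, ← pow_mul]; congr 1
  have hgc := (show Commute (g * g) x from mul_inv_eq_iff_eq_mul.1 hsq).pow_left (j + 1)
  rw [← hg1] at hgc
  refine mem_centralizer_iff.2 fun y hy => ?_
  rw [← hQx] at hy
  obtain ⟨z, rfl⟩ := mem_zpowers_iff.1 hy
  exact (hgc.zpow_right z).eq.symm

/-- `m = 24` reduces to an elementary abelian Sylow 2-subgroup fused in its normalizer. -/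
theorem twentyfour_cases (hd : 24 ∣ Nat.card G) (hc : Nat.Coprime 24 (Nat.card G / 24)) :
    HasOrd 24 G ∨ ∃ S : Sylow 2 G, Nat.card (S : Subgroup G) = 8 ∧
      (∀ x ∈ (S : Subgroup G), x * x = 1) ∧
      ¬ 3 ∣ Nat.card ↥(normalizer ((S : Subgroup G) : Set G)) ∧
      ∀ a ∈ (S : Subgroup G), a ≠ 1 → ∀ b ∈ (S : Subgroup G), b ≠ 1 →
        ∃ n ∈ normalizer ((S : Subgroup G) : Set G), n * a * n⁻¹ = b := by
  have := Fact.mk Nat.prime_two
  let S : Sylow 2 G := default
  have hS : ∀ T : Sylow 2 G, Nat.card (T : Subgroup G) = 8 := fun T =>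
    sylow_card_eq T (a := 3) (b := 3) ⟨1, rfl⟩ hd hc (by norm_num)
  rcases complement_cases S (hS S).dvd with h | ⟨Q, hQ, g, hg, ho, hn⟩
  · exact Or.inl (hasOrd_of_solvable_top (by norm_num) hd hc h)
  have hQd : Nat.card Q ∣ 8 := hS S ▸ card_dvd_of_le hQ
  have h24 : ∀ R : Subgroup G, Nat.card R = 8 → 3 ∣ Nat.card ↥(normalizer (R : Set G)) →
      HasOrd 24 G := fun R hR h3 => by
    have := exists_card_three_mul (IsPGroup.of_card (n := 3) hR) h3
    rwa [hR] at this
  by_cases h3 : 3 ∣ orderOf g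
  · left
    have h3N : 3 ∣ Nat.card ↥(normalizer (Q : Set G)) :=
      h3.trans (Subgroup.orderOf_dvd_natCard _ hg)
    obtain ⟨k, hk, he⟩ := (Nat.dvd_prime_pow Nat.prime_two).1 (show Nat.card Q ∣ 2 ^ 3 from hQd)
    interval_cases k
    · exact absurd (mem_centralizer_of_card_le_two (by omega) hg) hn
    · exact absurd (mem_centralizer_of_card_le_two (by omega) hg) hn
    · norm_num at he
      -- a four group
      have hidx : (Q.subgroupOf (S : Subgroup G)).index = 2 := by
        have h := card_mul_index (Q.subgroupOf (S : Subgroup G))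
        rw [Nat.card_congr (subgroupOfEquivOfLe hQ).toEquiv, he, hS S] at h
        omega
      have hSN : (S : Subgroup G) ≤ normalizer (Q : Set G) := by
        have := normal_of_index_eq_two hidx
        exact le_normalizer_of_normal_subgroupOf hQ
      have hexp : ∀ x ∈ Q, x * x = 1 := fun x hx => by
        by_contra hne
        exact hn (mem_centralizer_cyclic_four he hg ho hx hne)
      have hNs : Group.IsSolvable ↥(normalizer (Q : Set G)) := by
        have hC := isSolvable_centralizer_four he hexp hS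
        set φ := Subgroup.normalizerMonoidHom Q
        have hker : φ.ker = (centralizer (Q : Set G)).subgroupOf (normalizer (Q : Set G)) :=
          Subgroup.normalizerMonoidHom_ker Q
        have h1 : Group.IsSolvable φ.ker := by
          rw [hker]
          exact Group.isSolvable_of_isSolvable_injective
            (f := (subgroupOfEquivOfLe (H := centralizer (Q : Set G)) (K := normalizer (Q : Set G))
              (centralizer_le_normalizer _)).toMonoidHom)
            (MulEquiv.injective _)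
        have h2 : Group.IsSolvable (MulAut Q) := by
          classical
          have := Fintype.ofFinite Q
          let ψ : MulAut Q →* Equiv.Perm Q :=
            { toFun := fun e => e.toEquiv, map_one' := rfl, map_mul' := fun _ _ => rfl }
          have : Group.IsSolvable (Equiv.Perm Q) := CfsgLib.PGroup.Aniso.solvable_perm_le_four he.le
          exact Group.isSolvable_of_isSolvable_injective (f := ψ) fun a b h => MulEquiv.toEquiv_injective h
        exact solvable_of_ker_le_range φ.ker.subtype φ (by rw [range_subtype])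
      refine hasOrd_of_solvable (by norm_num) hd hc hNs ?_
      have h8 : 8 ∣ Nat.card ↥(normalizer (Q : Set G)) := hS S ▸ card_dvd_of_le hSN
      exact (Nat.Coprime.mul_dvd_of_dvd_of_dvd (by norm_num) h8 h3N : 8 * 3 ∣ _)
    · exact h24 Q he h3N
  rcases action_cases hQd hg ho h3 with h' | ⟨h8, htr⟩
  · exact absurd h' hn
  have hQS : Q = (S : Subgroup G) := eq_of_le_of_card_ge hQ (by rw [h8, hS S])
  rw [hQS] at hg htr
  by_cases h3N : 3 ∣ Nat.card ↥(normalizer ((S : Subgroup G) : Set G))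
  · exact Or.inl (h24 _ (hS S) h3N)
  refine Or.inr ⟨S, hS S, fun x hx => ?_, h3N, fun a ha ha1 b hb hb1 => ?_⟩
  · by_cases hx1 : x = 1
    · simp [hx1]
    obtain ⟨y, hy⟩ := exists_prime_orderOf_dvd_card' (G := (S : Subgroup G)) 2 (by rw [hS S]; norm_num)
    have hy1 : (y : G) ≠ 1 := fun e => by
      rw [← Subgroup.orderOf_coe, e, orderOf_one] at hy; omega
    obtain ⟨k, hk⟩ := htr y y.2 hy1 x hx hx1
    rw [← hk, ← pow_two, conj_pow,
      show (y : G) ^ 2 = 1 from orderOf_dvd_iff_pow_eq_one.1 (by rw [Subgroup.orderOf_coe, hy])]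
    simp
  · obtain ⟨k, hk⟩ := htr a ha ha1 b hb hb1
    exact ⟨g ^ k, zpow_mem hg k, hk⟩

end CfsgLib.HallNumber
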